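import Cfsg.Agent.L.OrdL33
import Cfsg.Agent.H8.M11Rec

/-! A simple group of order `7920` with the local data of `M11`. -/

set_option autoImplicit false

namespace CfsgL

open Subgroup Cfsg CfsgH5 CfsgH6 CfsgFT CfsgH8 CfsgH5.Wong

universe u

variable {G : Type u} [Group G] [Finite G]

theorem m11_of_card [IsSimpleGroup G] (hG : Nat.card G = 7920)
    (hc : ∀ s t : G, orderOf s = 2 → orderOf t = 2 → IsConj s t)
    (h48 : ∀ t : G, orderOf t = 2 → Nat.card (C1 t) = 48)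
    (h8 : ∀ y : G, orderOf y = 3 → ¬ 8 ∣ Nat.card (C1 y)) (h4 : ∃ g : G, orderOf g = 4)
    (h5 : ∀ y : G, orderOf y = 5 → Nat.card (C1 y) = 5)
    (h11 : ∀ y : G, orderOf y = 11 → Nat.card (C1 y) = 11) : Nonempty (G ≃* Spor.M11) := by
  obtain ⟨z, a, s, φ, h⟩ := exists_loc48 (by rw [hG]; decide) (by rw [hG]; decide) (Or.inr h4) hc h48
    fun y _ hy _ _ => h8 y hy
  have oz := Mat.orderOf_two h.z2 h.z1
  obtain ⟨a, w, h, R⟩ := loc_rel3 h
  obtain ⟨j, ja, js, jw⟩ := Gm.exists_hom R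
  have jz : j (Gm.a ^ 4) = z := by rw [map_pow, ja, h.a4]
  have ji := Gm.inj (f := j) (jz ▸ h.z1)
  have jr : j.range = C1 z := eq_of_le_of_card_ge (by
      rintro _ ⟨m, rfl⟩
      rw [mem_C1, ← jz, ← map_mul, ← map_mul,
        (by decide +kernel : ∀ m : Gm, m * Gm.a ^ 4 = Gm.a ^ 4 * m) m]) (by
    rw [← Nat.card_congr (MonoidHom.ofInjective ji).toEquiv, Nat.card_eq_fintype_card (α := Gm),
      Gm.card, h48 z oz])
  have hcl : ∀ t : G, orderOf t = orderOf z → IsConj z t := fun t ht => hc z t oz (ht.trans oz)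
  have idx : ∀ (y : G) (c d : ℕ), Nat.card (C1 y) = c → c * d = 7920 → 0 < c → (C1 y).index = d :=
    fun y c d e1 e2 e3 => by
      have := (C1 y).card_mul_index
      rw [e1, hG, ← e2] at this
      exact Nat.eq_of_mul_eq_mul_left e3 this
  have n2 : nord G 2 = 165 := by
    rw [← oz, nord_eq_index hcl]; exact idx z 48 165 (h48 z oz) rfl (by norm_num)
  have cnt : ∀ e, e ≠ 0 → nord G (2 * e) =
      165 * Nat.card {m : Gm // orderOf m = 2 * e ∧ m ^ e = Gm.a ^ 4} := fun e he => by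
    have := nord_mul_eq hcl he
    rw [oz, n2] at this
    rw [this]
    congr 1
    refine (Nat.card_congr (Equiv.ofBijective (fun m => ⟨j m.1, by
      rw [orderOf_injective j ji, m.2.1], by rw [← map_pow, m.2.2, jz]⟩)
      ⟨fun m m' e => Subtype.ext (ji (congrArg Subtype.val e)), fun g => ?_⟩)).symm
    obtain ⟨g, g1, g2⟩ := g
    obtain ⟨m, rfl⟩ := jr.ge (mem_C1.2 (show g * z = z * g by rw [← g2, ← pow_succ, ← pow_succ']))
    exact ⟨⟨m, by rwa [orderOf_injective j ji] at g1, ji (by rw [map_pow, g2, jz])⟩, rfl⟩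
  have n4 : nord G 4 = 990 := by
    have := cnt 2 (by norm_num)
    simp only [orderOf_eq_iff (show 0 < 2 * 2 by norm_num)] at this
    rw [Nat.card_eq_fintype_card] at this
    exact this.trans (by decide +kernel)
  have n6 : nord G 6 = 1320 := by
    have := cnt 3 (by norm_num)
    simp only [orderOf_eq_iff (show 0 < 2 * 3 by norm_num)] at this
    rw [Nat.card_eq_fintype_card] at this
    exact this.trans (by decide +kernel)
  have n8 : nord G 8 = 1980 := by
    have := cnt 4 (by norm_num)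
    simp only [orderOf_eq_iff (show 0 < 2 * 4 by norm_num)] at this
    rw [Nat.card_eq_fintype_card] at this
    exact this.trans (by decide +kernel)
  have f5 := Fact.mk (show Nat.Prime 5 by norm_num)
  have f11 := Fact.mk (show Nat.Prime 11 by norm_num)
  have syl : ∀ p, [Fact p.Prime] → Nat.card (Sylow p G) ∈ (7920 : ℕ).divisors := fun p _ => by
    obtain ⟨P⟩ : Nonempty (Sylow p G) := inferInstance
    exact Nat.mem_divisors.2 ⟨hG ▸ P.card_dvd_index.trans (index_dvd_card _), by norm_num⟩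
  have n5 : nord G 5 = 1584 := by
    have e1 := nord_eq_sylow (G := G) (p := 5) (by rw [hG]; norm_num) (by rw [hG]; norm_num)
    have e2 := dvd_nord_of_index (G := G) (n := 5) (d := 1584) fun g hg =>
      (idx g 5 1584 (h5 g hg) rfl (by norm_num)).symm.dvd
    rw [e1] at e2 ⊢
    rw [(by decide +kernel : ∀ n ∈ (7920 : ℕ).divisors, n ≡ 1 [MOD 5] → 1584 ∣ n * (5 - 1) → n = 396)
      _ (syl 5) (card_sylow_modEq_one 5 G) e2]
  have n11 : nord G 11 = 1440 := by
    have e1 := nord_eq_sylow (G := G) (p := 11) (by rw [hG]; norm_num) (by rw [hG]; norm_num)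
    have e2 := dvd_nord_of_index (G := G) (n := 11) (d := 720) fun g hg =>
      (idx g 11 720 (h11 g hg) rfl (by norm_num)).symm.dvd
    rw [e1] at e2 ⊢
    rw [(by decide +kernel : ∀ n ∈ (7920 : ℕ).divisors, n ≡ 1 [MOD 11] → 720 ∣ n * (11 - 1) → n = 144)
      _ (syl 11) (card_sylow_modEq_one 11 G) e2]
  have pw : ∀ (g : G) (p : ℕ), p ∣ orderOf g → ∃ y, orderOf y = p ∧ g ∈ C1 y := fun g p hp =>
    ⟨_, orderOf_pow_orderOf_div (orderOf_pos g).ne' hp, mem_C1.2 (Commute.self_pow g _)⟩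
  have ord : ∀ g : G, orderOf g ∈ ({1, 2, 3, 4, 5, 6, 8, 9, 11} : Finset ℕ) := fun g => by
    have d : orderOf g ∈ (7920 : ℕ).divisors :=
      Nat.mem_divisors.2 ⟨hG ▸ orderOf_dvd_natCard g, by norm_num⟩
    refine (by decide +kernel : ∀ n ∈ (7920 : ℕ).divisors, (5 ∣ n → n ∣ 5) → (11 ∣ n → n ∣ 11) →
      (2 ∣ n → n ∣ 6 ∨ n ∣ 8) → n ∈ ({1, 2, 3, 4, 5, 6, 8, 9, 11} : Finset ℕ)) _ d
      (fun c => ?_) (fun c => ?_) fun c => ?_
    · obtain ⟨y, e, m⟩ := pw g 5 c
      exact h5 y e ▸ orderOf_dvd_card' m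
    · obtain ⟨y, e, m⟩ := pw g 11 c
      exact h11 y e ▸ orderOf_dvd_card' m
    · obtain ⟨y, e, m⟩ := pw g 2 c
      obtain ⟨k, rfl⟩ := isConj_iff.1 (hc z y oz e)
      rw [← cj_C1, mem_cj] at m
      obtain ⟨m, hm⟩ := jr.ge m
      have : orderOf g = orderOf m := by
        rw [← orderOf_injective j ji, hm]; simpa using (orderOf_conj' k⁻¹ g).symm
      rw [this, orderOf_dvd_iff_pow_eq_one, orderOf_dvd_iff_pow_eq_one]
      exact (by decide +kernel : ∀ m : Gm, m ^ 6 = 1 ∨ m ^ 8 = 1) m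
  have tot : nord G 3 + nord G 9 = 440 := by
    have h1 := card_eq_sum_nord (G := G)
    rw [hG, ← Finset.sum_subset (s₁ := ({1, 2, 3, 4, 5, 6, 8, 9, 11} : Finset ℕ))
      (s₂ := (7920 : ℕ).divisors) (f := nord G) (by decide +kernel)
      fun d _ hd => nord_eq_zero_iff.2 fun g e => hd (e ▸ ord g)] at h1
    simp [nord_one, n2, n4, n5, n6, n8, n11] at h1
    omega
  have n9 : nord G 9 = 0 := by
    have e2 := dvd_nord_of_index (G := G) (n := 9) (d := 880) fun g hg => by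
      have k : ∀ p c, p.Prime → (∀ y : G, orderOf y = p → Nat.card (C1 y) = c) → ¬ 9 ∣ c →
          ¬ p ∣ Nat.card (C1 g) := fun p c hp hy h9 hd => by
        obtain ⟨y, m, e⟩ := exists_mem_orderOf_eq hp hd
        exact h9 (hy y e ▸ hg ▸ orderOf_dvd_card' (mem_C1.2 (mem_C1.1 m).symm))
      have d : Nat.card (C1 g) ∈ (7920 : ℕ).divisors :=
        Nat.mem_divisors.2 ⟨hG ▸ card_subgroup_dvd_card _, by norm_num⟩
      exact (idx g 9 880 ((by decide +kernel : ∀ n ∈ (7920 : ℕ).divisors, 9 ∣ n → ¬ 2 ∣ n →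
        ¬ 5 ∣ n → ¬ 11 ∣ n → n = 9) _ d (hg ▸ orderOf_dvd_card' (mem_C1.2 rfl))
        (k 2 48 Nat.prime_two h48 (by norm_num)) (k 5 5 f5.out h5 (by norm_num))
        (k 11 11 f11.out h11 (by norm_num))) rfl (by norm_num)).symm.dvd
    omega
  refine M11.Nse.iso ⟨hG, n2, by omega, n4, n6, n8, n11, fun g => ?_⟩
  have h1 := ord g
  have h2 := nord_eq_zero_iff.1 n9 g
  simp only [Finset.mem_insert, Finset.mem_singleton] at h1 ⊢
  omega

end CfsgL
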