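import Mathlib

set_option autoImplicit false
set_option linter.unusedSectionVars false

/-! Two top-level lemmas for S3617: the centre of a point stabiliser of a normal subgroup of a
doubly transitive group is semiregular, and the Heisenberg lemma for `[P,z]`. -/

namespace CfsgQH

open Subgroup
open scoped commutatorElement

section semireg

variable {X D : Type*} [Group X] [MulAction X D]

/-- `ζ` lies in the centre of the stabiliser of `b` in `T`. -/
def Zc (T : Subgroup X) (b : D) (ζ : X) : Prop :=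
  ζ ∈ T ∧ ζ • b = b ∧ ∀ t ∈ T, t • b = b → t * ζ = ζ * t

theorem Zc.conj {T : Subgroup X} [hT : T.Normal] {b : D} {ζ : X} (h : Zc T b ζ) (g : X) :
    Zc T (g • b) (g * ζ * g⁻¹) := by
  refine ⟨hT.conj_mem _ h.1 g, ?_, fun t ht htb => ?_⟩
  · rw [mul_smul, mul_smul, inv_smul_smul, h.2.1]
  · have h1 : g⁻¹ * t * g ∈ T := by simpa using hT.conj_mem _ ht g⁻¹
    have h2 : (g⁻¹ * t * g) • b = b := by rw [mul_smul, mul_smul, htb, inv_smul_smul]
    have h3 := h.2.2 _ h1 h2
    calc t * (g * ζ * g⁻¹) = g * (g⁻¹ * t * g * ζ) * g⁻¹ := by group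
      _ = g * (ζ * (g⁻¹ * t * g)) * g⁻¹ := by rw [h3]
      _ = g * ζ * g⁻¹ * t := by group

/-- the common part of two centres. -/
def EE (T : Subgroup X) (x y : D) : Set X := {ζ | Zc T x ζ ∧ Zc T y ζ}

theorem EE_card [Finite X] {T : Subgroup X} [T.Normal]
    (h2 : ∀ x y x' y' : D, x ≠ y → x' ≠ y' → ∃ g : X, g • x = x' ∧ g • y = y')
    {x y x' y' : D} (h : x ≠ y) (h' : x' ≠ y') : (EE T x y).ncard ≤ (EE T x' y').ncard := by
  obtain ⟨g, rfl, rfl⟩ := h2 x y x' y' h h'
  refine Set.ncard_le_ncard_of_injOn (fun ζ => g * ζ * g⁻¹) (fun ζ hζ => ⟨hζ.1.conj g, hζ.2.conj g⟩)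
    (fun a _ b _ e => by simpa using e) (Set.toFinite _)

theorem semireg [Finite X] (T : Subgroup X) [T.Normal]
    (hf : ∀ t ∈ T, (∀ d : D, t • d = d) → t = 1)
    (h2 : ∀ x y x' y' : D, x ≠ y → x' ≠ y' → ∃ g : X, g • x = x' ∧ g • y = y')
    {b c : D} (hbc : c ≠ b) {ζ : X} (hζ : Zc T b ζ) (hc : ζ • c = c) : ζ = 1 := by
  by_contra h1
  have s1 : ∃ η : X, Zc T c η ∧ η • b ≠ b := by
    by_contra hn
    push Not at hn
    apply h1
    refine hf ζ hζ.1 fun d => ?_
    by_cases hd : d = b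
    · rw [hd]; exact hζ.2.1
    · obtain ⟨g, hg1, hg2⟩ := h2 b d c b (Ne.symm hd) hbc
      have := hn _ (hg1 ▸ hζ.conj g)
      rw [← hg2, mul_smul, mul_smul, inv_smul_smul] at this
      exact smul_left_cancel g this
  obtain ⟨η, hη, hηb⟩ := s1
  have hb' : Zc T (η • b) ζ := by
    have h3 := hζ.conj η
    have h4 : η * ζ * η⁻¹ = ζ := by rw [← hη.2.2 ζ hζ.1 hc]; group
    rwa [h4] at h3
  set b' := η • b with hb'def
  apply h1
  refine hf ζ hζ.1 fun x => ?_
  by_contra hx
  have hxb : b ≠ x := fun e => hx (e ▸ hζ.2.1)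
  have hxb' : b' ≠ x := fun e => hx (e ▸ hb'.2.1)
  have key : ∀ y : D, y ≠ x → Zc T y ζ → EE T y x = EE T x (ζ • x) := by
    intro y hy hyζ
    refine Set.eq_of_subset_of_ncard_le (fun ε hε => ⟨hε.2, ?_⟩)
      (EE_card h2 (Ne.symm hx) hy) (Set.toFinite _)
    have h3 := hε.2.conj ζ
    have h4 : ζ * ε * ζ⁻¹ = ε := by rw [hε.1.2.2 ζ hyζ.1 hyζ.2.1]; group
    rwa [h4] at h3
  have e1 := key b hxb hζ
  have e2 := key b' hxb' hb'
  have e3 : EE T b x = EE T b b' := by
    refine Set.eq_of_subset_of_ncard_le (fun ε hε => ⟨hε.1, ?_⟩)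
      (EE_card h2 (Ne.symm hηb) hxb) (Set.toFinite _)
    have : ε ∈ EE T b' x := by rw [e2, ← e1]; exact hε
    exact this.1
  have : ζ ∈ EE T b x := by rw [e3]; exact ⟨hζ, hb'⟩
  exact hx this.2.2.1

end semireg

section heis

theorem comm_pow_left {H : Type*} [Group H] (hc : ∀ a b : H, ⁅a, b⁆ ∈ center H) (a b : H) (n : ℕ) :
    ⁅a ^ n, b⁆ = ⁅a, b⁆ ^ n := by
  induction n with
  | zero => simp
  | succ n ih =>
    have h1 := mem_center_iff.1 (hc (a ^ n) b) a
    calc ⁅a ^ (n + 1), b⁆ = a * ⁅a ^ n, b⁆ * a⁻¹ * ⁅a, b⁆ := by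
          simp only [commutatorElement_def, pow_succ']; group
      _ = ⁅a ^ n, b⁆ * ⁅a, b⁆ := by rw [h1]; group
      _ = ⁅a, b⁆ ^ (n + 1) := by rw [ih, pow_succ]

theorem comm_pow_right {H : Type*} [Group H] (hc : ∀ a b : H, ⁅a, b⁆ ∈ center H) (a b : H) (n : ℕ) :
    ⁅a, b ^ n⁆ = ⁅a, b⁆ ^ n := by
  rw [← commutatorElement_inv, comm_pow_left hc, ← inv_pow, commutatorElement_inv]

theorem heis_abs {H : Type*} [Group H] [Finite H] {p : ℕ} [Fact p.Prime] (hp : IsPGroup p H)
    (h : ∀ A : Subgroup H, A.Characteristic → (∀ a ∈ A, ∀ b ∈ A, a * b = b * a) → A ≤ center H) :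
    (∀ a b : H, ⁅a, b⁆ ∈ center H) ∧ ∀ a : H, a ^ p ∈ center H := by
  have hZ2 : ∀ x ∈ Subgroup.upperCentralSeries H 2, ∀ y ∈ _root_.commutator H, y * x = x * y := by
    intro x hx
    have hx1 : ∀ y : H, ⁅x, y⁆ ∈ center H := fun y => by
      have := (Subgroup.mem_upperCentralSeries_succ_iff.1 hx) y
      rwa [Subgroup.upperCentralSeries_one] at this
    have : _root_.commutator H ≤ centralizer {x} := by
      rw [_root_.commutator_def, commutator_le]
      intro a _ b _
      rw [mem_centralizer_singleton_iff]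
      have ha := hx1 a
      have hb := hx1 b
      have e1 : x * a = ⁅x, a⁆ * a * x := by simp only [commutatorElement_def]; group
      have e2 : x * b = ⁅x, b⁆ * b * x := by simp only [commutatorElement_def]; group
      have e3 : x * (a * b) = ⁅x, a⁆ * ⁅x, b⁆ * (a * b) * x := by
        calc x * (a * b) = ⁅x, a⁆ * a * (x * b) := by rw [← mul_assoc, e1]; group
          _ = ⁅x, a⁆ * (a * ⁅x, b⁆) * b * x := by rw [e2]; group
          _ = _ := by rw [mem_center_iff.1 hb a]; group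
      have e4 : x * (b * a) = ⁅x, a⁆ * ⁅x, b⁆ * (b * a) * x := by
        calc x * (b * a) = ⁅x, b⁆ * b * (x * a) := by rw [← mul_assoc, e2]; group
          _ = ⁅x, b⁆ * (b * ⁅x, a⁆) * a * x := by rw [e1]; group
          _ = (⁅x, b⁆ * ⁅x, a⁆) * (b * a) * x := by rw [mem_center_iff.1 ha b]; group
          _ = _ := by rw [mem_center_iff.1 ha ⁅x, b⁆]
      set c := ⁅x, a⁆ * ⁅x, b⁆ with hc
      have hcZ : c ∈ center H := mul_mem ha hb
      have e5 : x * (a * b) * x⁻¹ = c * (a * b) := by rw [e3]; group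
      have e6 : x * (b * a) * x⁻¹ = c * (b * a) := by rw [e4]; group
      have e7 : x * ⁅a, b⁆ * x⁻¹ = ⁅a, b⁆ := by
        calc x * ⁅a, b⁆ * x⁻¹ = (x * (a * b) * x⁻¹) * (x * (b * a) * x⁻¹)⁻¹ := by
              simp only [commutatorElement_def]; group
          _ = c * ⁅a, b⁆ * c⁻¹ := by rw [e5, e6]; simp only [commutatorElement_def]; group
          _ = ⁅a, b⁆ := by rw [← mem_center_iff.1 hcZ ⁅a, b⁆]; group
      calc ⁅a, b⁆ * x = x * ⁅a, b⁆ * x⁻¹ * x := by rw [e7]
        _ = x * ⁅a, b⁆ := by group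
    intro y hy
    exact mem_centralizer_singleton_iff.1 (this hy)
  have hB : _root_.commutator H ⊓ Subgroup.upperCentralSeries H 2 ≤ center H :=
    h _ inferInstance fun a ha b hb => hZ2 b hb.2 a ha.1
  have hn : ∀ n, _root_.commutator H ⊓ Subgroup.upperCentralSeries H n ≤ center H := by
    intro n
    induction n with
    | zero => simp
    | succ n ih =>
      intro x hx
      refine hB ⟨hx.1, ?_⟩
      refine (Subgroup.mem_upperCentralSeries_succ_iff (n := 1)).2 fun y => ?_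
      rw [Subgroup.upperCentralSeries_one]
      refine ih ⟨?_, (Subgroup.mem_upperCentralSeries_succ_iff.1 hx.2) y⟩
      exact commutator_mem_commutator (mem_top x) (mem_top y)
  have hc : ∀ a b : H, ⁅a, b⁆ ∈ center H := by
    have := hp.isNilpotent
    obtain ⟨n, hn'⟩ := Group.IsNilpotent.nilpotent H
    intro a b
    refine hn n ⟨commutator_mem_commutator (mem_top a) (mem_top b), ?_⟩
    rw [hn']; trivial
  refine ⟨hc, ?_⟩
  have step : ∀ k, (∀ a : H, a ^ p ^ (k + 2) ∈ center H) → ∀ a : H, a ^ p ^ (k + 1) ∈ center H := by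
    intro k hk a
    have hch : (closure (Set.range fun a : H => a ^ p ^ (k + 1))).Characteristic := by
      rw [characteristic_iff_map_le]
      intro φ
      rw [MonoidHom.map_closure, closure_le]
      rintro _ ⟨_, ⟨b, rfl⟩, rfl⟩
      exact subset_closure ⟨φ b, by simp⟩
    refine h _ hch ?_ (subset_closure ⟨a, rfl⟩)
    have hcomm : ∀ x ∈ (Set.range fun a : H => a ^ p ^ (k + 1)),
        ∀ y ∈ (Set.range fun a : H => a ^ p ^ (k + 1)), x * y = y * x := by
      rintro _ ⟨x, rfl⟩ _ ⟨y, rfl⟩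
      rw [← commutatorElement_eq_one_iff_mul_comm, comm_pow_right hc, ← comm_pow_left hc,
        commutatorElement_eq_one_iff_mul_comm, ← pow_mul]
      have e : p ^ (k + 1) * p ^ (k + 1) = p ^ (k + 2) * p ^ k := by ring
      rw [e, pow_mul]
      exact (mem_center_iff.1 (pow_mem (hk x) _) y).symm
    intro x hx y hy
    have h1 : closure (Set.range fun a : H => a ^ p ^ (k + 1)) ≤
        centralizer (Set.range fun a : H => a ^ p ^ (k + 1)) :=
      (closure_le _).2 fun x hx y hy => hcomm y hy x hx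
    have h2 : closure (Set.range fun a : H => a ^ p ^ (k + 1)) ≤ centralizer {x} :=
      (closure_le _).2 fun y hy => mem_centralizer_singleton_iff.2 (h1 hx y hy)
    exact (mem_centralizer_singleton_iff.1 (h2 hy)).symm
  obtain ⟨n, hn⟩ := IsPGroup.iff_card.1 hp
  have all : ∀ k, (∀ a : H, a ^ p ^ (k + 1) ∈ center H) → ∀ a : H, a ^ p ∈ center H := by
    intro k
    induction k with
    | zero => simp
    | succ k ih => exact fun hk => ih (step k hk)
  refine all n fun a => ?_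
  rw [pow_succ, pow_mul, ← hn, pow_card_eq_one', one_pow]
  exact one_mem _

variable {G : Type*} [Group G]

theorem conj_mem_comm {P Q : Subgroup G} {g : G} (hg : g ∈ P) {x : G} (hx : x ∈ ⁅P, Q⁆) :
    g * x * g⁻¹ ∈ ⁅P, Q⁆ := by
  have : ⁅P, Q⁆ ≤ (⁅P, Q⁆ : Subgroup G).comap (MulAut.conj g).toMonoidHom := by
    rw [commutator_le]
    intro a ha b hb
    have e : (MulAut.conj g).toMonoidHom ⁅a, b⁆ = ⁅g * a, b⁆ * ⁅g, b⁆⁻¹ := by
      simp only [commutatorElement_def, MulEquiv.coe_toMonoidHom, MulAut.conj_apply]; group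
    rw [mem_comap, e]
    exact mul_mem (commutator_mem_commutator (mul_mem hg ha) hb)
      (inv_mem (commutator_mem_commutator hg hb))
  exact this hx

theorem le_norm_comm_left (P Q : Subgroup G) : P ≤ normalizer ((⁅P, Q⁆ : Subgroup G) : Set G) := by
  intro g hg n
  refine ⟨conj_mem_comm hg, fun h => ?_⟩
  have := conj_mem_comm (inv_mem hg) h
  simpa [mul_assoc] using this

theorem le_norm_comm_right (P Q : Subgroup G) : Q ≤ normalizer ((⁅P, Q⁆ : Subgroup G) : Set G) := by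
  rw [commutator_comm]; exact le_norm_comm_left Q P

theorem comm_le_of_norm {P : Subgroup G} {z : G} (hz : z ∈ normalizer (P : Set G)) :
    ⁅P, zpowers z⁆ ≤ P := by
  rw [commutator_le]
  intro a ha w hw
  have hw' : w ∈ normalizer (P : Set G) := (zpowers_le.2 hz) hw
  have := (mem_normalizer_iff.1 hw' a⁻¹).1 (inv_mem ha)
  have e : ⁅a, w⁆ = a * (w * a⁻¹ * w⁻¹) := by simp only [commutatorElement_def]; group
  rw [e]; exact mul_mem ha this

/-- if `z` centralises every abelian `z`-invariant `p`-subgroup, then `[P,z]` is of Heisenberg type. -/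
theorem heis [Finite G] {p : ℕ} [Fact p.Prime] {z : G}
    (h : ∀ A : Subgroup G, IsPGroup p A → z ∈ normalizer (A : Set G) →
      (∀ a ∈ A, ∀ b ∈ A, a * b = b * a) → ∀ a ∈ A, z * a = a * z)
    (P : Subgroup G) (hP : IsPGroup p P) (hz : z ∈ normalizer (P : Set G)) :
    (∀ a ∈ ⁅P, zpowers z⁆, ∀ b ∈ ⁅P, zpowers z⁆, z * ⁅a, b⁆ = ⁅a, b⁆ * z) ∧
      ∀ a ∈ ⁅P, zpowers z⁆, z * a ^ p = a ^ p * z := by
  set R : Subgroup G := ⁅P, zpowers z⁆ with hR
  have hRp : IsPGroup p R := hP.to_le (comm_le_of_norm hz)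
  have hzR : z ∈ normalizer (R : Set G) := le_norm_comm_right P _ (mem_zpowers z)
  have nrm : ∀ A : Subgroup R, A.Characteristic → ∀ g ∈ normalizer (R : Set G),
      ∀ a ∈ A.map R.subtype, g * a * g⁻¹ ∈ A.map R.subtype := by
    rintro A hA g hg _ ⟨a, ha, rfl⟩
    let φ : R ≃* R := R.normalizerMonoidHom ⟨g, hg⟩
    have h1 : φ a ∈ A := (characteristic_iff_map_le.1 hA φ) ⟨a, ha, rfl⟩
    exact ⟨φ a, h1, rfl⟩
  have nrm' : ∀ A : Subgroup R, A.Characteristic → ∀ g ∈ normalizer (R : Set G),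
      g ∈ normalizer ((A.map R.subtype : Subgroup G) : Set G) := by
    intro A hA g hg n
    refine ⟨nrm A hA g hg n, fun h => ?_⟩
    have := nrm A hA g⁻¹ (inv_mem hg) _ h
    simpa [mul_assoc] using this
  have cz : ∀ A : Subgroup R, A.Characteristic → (∀ a ∈ A, ∀ b ∈ A, a * b = b * a) →
      ∀ a ∈ A.map R.subtype, z * a = a * z := by
    intro A hA hab
    refine h _ (hRp.to_le (map_subtype_le A)) (nrm' A hA z hzR) ?_
    rintro _ ⟨a, ha, rfl⟩ _ ⟨b, hb, rfl⟩
    exact congrArg Subtype.val (hab a ha b hb)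
  have main := heis_abs hRp (fun A hA hab => by
    have h1 : R ≤ centralizer ((A.map R.subtype : Subgroup G) : Set G) := by
      refine (commutator_le (H₁ := P) (H₂ := zpowers z)).2 ?_
      intro g hg w hw
      have hw' : w ∈ centralizer ((A.map R.subtype : Subgroup G) : Set G) :=
        (zpowers_le.2 (mem_centralizer_iff.2 fun a ha => (cz A hA hab a ha).symm)) hw
      have h2 : g * w * g⁻¹ ∈ centralizer ((A.map R.subtype : Subgroup G) : Set G) := by
        intro a ha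
        have h3 := nrm A hA g⁻¹ (inv_mem (le_norm_comm_left P _ hg)) a ha
        have h4 := hw' _ h3
        calc a * (g * w * g⁻¹) = g * (g⁻¹ * a * g⁻¹⁻¹ * w) * g⁻¹ := by group
          _ = g * (w * (g⁻¹ * a * g⁻¹⁻¹)) * g⁻¹ := by rw [h4]
          _ = g * w * g⁻¹ * a := by group
      exact mul_mem h2 (inv_mem hw')
    intro a ha
    rw [mem_center_iff]
    intro g
    exact Subtype.ext (h1 g.2 a ⟨a, ha, rfl⟩).symm)
  have czc := cz (center R) inferInstance fun a _ b hb => mem_center_iff.1 hb a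
  exact ⟨fun a ha b hb => czc _ ⟨_, main.1 ⟨a, ha⟩ ⟨b, hb⟩, rfl⟩,
    fun a ha => czc _ ⟨_, main.2 ⟨a, ha⟩, rfl⟩⟩

end heis

end CfsgQH
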