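import Cfsg.Agent.H7.W3Par
import Cfsg.Agent.H1.ONan
import Cfsg.Agent.H1.Q4Base
import Cfsg.Agent.H6.PSLSmall

/-! S3422, piece (ID): identification with `PSL₃(q)` from the action of degree `q² + q + 1`. -/

set_option autoImplicit false

namespace CfsgW3

open Matrix
open scoped MatrixGroups

universe u

namespace ID

/-- O'Nan's theorem with the degree -/
theorem onan {G X : Type*} [Group G] [Finite G] [Fintype X]
    [MulAction G X] [FaithfulSMul G X] (h2 : MulAction.IsMultiplyPretransitive G X 2) (x : X)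
    (N : Subgroup G) (hNle : N ≤ MulAction.stabilizer G x)
    (hNnormal : ∀ g ∈ MulAction.stabilizer G x, ∀ n ∈ N, g * n * g⁻¹ ∈ N)
    (hcomm : ∀ a ∈ N, ∀ b ∈ N, Commute a b)
    (hnsr : ∃ n ∈ N, n ≠ 1 ∧ ∃ y : X, y ≠ x ∧ n • y = y) :
    ∃ (m : ℕ) (F : Type) (_ : Field F) (_ : Fintype F), 2 ≤ m ∧
      Nat.card X = (Fintype.card F ^ (m + 1) - 1) / (Fintype.card F - 1) ∧
      ∃ K : Subgroup G, K.Normal ∧ Nonempty (K ≃* PSL(m + 1, F)) ∧
        Subgroup.centralizer (K : Set G) = ⊥ := by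
  classical
  obtain ⟨n, hn, hn1, y, hyx, hny⟩ := hnsr
  have : Nontrivial X := ⟨y, x, hyx⟩
  have h1 : MulAction.IsPretransitive G X := MulAction.isPretransitive_of_is_two_pretransitive
  rw [MulAction.is_two_pretransitive_iff] at h2
  obtain ⟨p, hp, k, hk⟩ := Nat.exists_prime_and_dvd (mt orderOf_eq_one_iff.1 hn1)
  have hk0 : k ≠ 0 := by
    rintro rfl
    exact (orderOf_pos n).ne' (by simpa using hk)
  have hm1 : n ^ k ≠ 1 := pow_ne_one_of_lt_orderOf hk0 (by
    rw [hk]
    exact lt_mul_of_one_lt_left (Nat.pos_of_ne_zero hk0) hp.one_lt)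
  have hmp : (n ^ k) ^ p = 1 := by rw [← pow_mul, mul_comm, ← hk, pow_orderOf_eq_one]
  have hcomm' : ∀ u a b : G, u⁻¹ * a * u ∈ N → u⁻¹ * b * u ∈ N → Commute a b := by
    intro u a b ha hb
    have := (hcomm _ ha _ hb).conj u
    simpa [mul_assoc] using this
  choose c hc using fun z => MulAction.exists_smul_eq G x z
  let M : X → Subgroup G := fun z =>
    { carrier := {a | (c z)⁻¹ * a * c z ∈ N ∧ a ^ p = 1}
      one_mem' := by simp
      mul_mem' := fun {a b} ha hb => ⟨by simpa [mul_assoc] using mul_mem ha.1 hb.1, by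
        rw [(hcomm' _ _ _ ha.1 hb.1).mul_pow, ha.2, hb.2, mul_one]⟩
      inv_mem' := fun {a} ha => ⟨by simpa [mul_assoc] using inv_mem ha.1, by simp [ha.2]⟩ }
  have memM : ∀ (g : G) a, a ∈ M (g • x) ↔ g⁻¹ * a * g ∈ N ∧ a ^ p = 1 := by
    intro g a
    refine and_congr_left fun _ => ⟨fun h => ?_, fun h => ?_⟩
    · have := hNnormal (g⁻¹ * c (g • x)) (by simp [mul_smul, hc]) _ h
      simpa [mul_assoc] using this
    · have := hNnormal ((c (g • x))⁻¹ * g) (by simp [mul_smul, inv_smul_eq_iff, hc]) _ h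
      simpa [mul_assoc] using this
  let O : CfsgH1.ONanFam G X :=
    { N := M
      p := p
      prime := hp
      two := h2
      conj := fun g z a ha => by
        obtain ⟨u, rfl⟩ := MulAction.exists_smul_eq G x z
        rw [memM] at ha
        rw [← mul_smul, memM]
        exact ⟨by simpa [mul_assoc] using ha.1, by simp [ha.2]⟩
      fix := fun {z a} ha => by
        obtain ⟨u, rfl⟩ := MulAction.exists_smul_eq G x z
        have := hNle ((memM u a).1 ha).1
        rwa [MulAction.mem_stabilizer_iff, mul_smul, mul_smul, inv_smul_eq_iff] at this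
      comm := fun {z a b} ha hb => hcomm' _ _ _ ha.1 hb.1
      pow := fun ha => ha.2
      ex := fun {u v} huv => by
        obtain ⟨g, rfl, rfl⟩ := h2 hyx.symm huv
        refine ⟨g * n ^ k * g⁻¹, (memM _ _).2 ⟨by simpa [mul_assoc] using pow_mem hn k, ?_⟩,
          by simpa using hm1, ?_⟩
        · rw [conj_pow, hmp]; simp
        · rw [mul_smul, inv_smul_smul, mul_smul]
          congr 1
          exact pow_mem (show n ∈ MulAction.stabilizer G y from hny) k }
  exact O.psl

theorem pow_dvd_psl (n : ℕ) (hn : 3 ≤ n) (F : Type*) [Field F] [Fintype F] :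
    Fintype.card F ^ (2 * n) ∣ Nat.card PSL(n + 1, F) := by
  have h1 := CfsgH6.card_psl_mul (n + 1) F
  have h2 := CfsgH3.card_SL_mul (F := F) (n := Fin (n + 1))
  rw [Nat.card_congr (SpecialLinearGroup.center_equiv_rootsOfUnity' (0 : Fin (n + 1))).toEquiv]
    at h1
  have h3 := Subgroup.card_subgroup_dvd_card (rootsOfUnity (Fintype.card (Fin (n + 1))) F)
  rw [Nat.card_units, Nat.card_eq_fintype_card (α := F)] at h3
  rw [card_GL_field, Nat.card_eq_fintype_card (α := F), ← h1, mul_assoc] at h2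
  have c : (Fintype.card F).Coprime (Fintype.card F - 1) :=
    (Nat.coprime_self_sub_right Fintype.card_pos).2 (Nat.coprime_one_right _)
  refine Nat.Coprime.dvd_of_dvd_mul_right
    (Nat.Coprime.pow_left _ ((c.coprime_dvd_right h3).mul_right c)) (h2 ▸ ?_)
  refine dvd_trans ?_ (Finset.prod_dvd_prod_of_dvd (fun i : Fin (n + 1) => Fintype.card F ^ i.1) _
    fun i _ => Nat.dvd_sub (pow_dvd_pow _ i.2.le) dvd_rfl)
  rw [Finset.prod_pow_eq_pow_sum, Fin.sum_univ_eq_sum_range (fun i => i)]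
  refine pow_dvd_pow _ ?_
  have := Finset.sum_range_id_mul_two (n + 1)
  rw [Nat.add_sub_cancel] at this
  nlinarith

theorem arith {q r d m e f p k n : ℕ} (h : Par q r d m e) (hp : p.Prime) (hf : f = p ^ k)
    (h2 : 2 ≤ f) (hn : 3 ≤ n) (e1 : q ^ 2 + q + 1 = (f ^ (n + 1) - 1) / (f - 1))
    (e2 : f ^ (2 * n) ∣ ord q m) : False := by
  have q2 := h.q2
  have l1 : q ^ 2 < 2 * f ^ n := by
    have a := Nat.div_mul_le_self (f ^ (n + 1) - 1) (f - 1)
    rw [← e1] at a
    obtain ⟨g, rfl⟩ : ∃ g, f = g + 2 := ⟨f - 2, by omega⟩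
    have b : 0 < (g + 2) ^ n := by positivity
    rw [pow_succ (g + 2), show g + 2 - 1 = g + 1 from rfl] at a
    have c : (g + 2) ^ n * (g + 2) - 1 < 2 * (g + 2) ^ n * (g + 1) := by
      have : (g + 2) ^ n * (g + 2) ≤ 2 * (g + 2) ^ n * (g + 1) := by nlinarith
      have : 0 < (g + 2) ^ n * (g + 2) := by positivity
      omega
    have := lt_of_mul_lt_mul_right (a.trans_lt c) (Nat.zero_le _)
    omega
  have c1 : f.Coprime m := by
    refine Nat.Coprime.coprime_dvd_right (Dvd.intro_left d h.hm) ?_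
    rw [e1, ← Nat.geomSum_eq h2, Finset.sum_range_succ', pow_zero]
    exact (Nat.coprime_add_iff_right (Finset.dvd_sum fun i _ => dvd_pow_self f i.succ_ne_zero)).2
      (Nat.coprime_one_right _)
  have e3 : f ^ (2 * n) ∣ q ^ 3 * ((q - 1) ^ 2 * (q + 1)) :=
    (c1.pow_left _).dvd_of_dvd_mul_right (by rwa [mul_right_comm] )
  have l2 : f ^ (2 * n) ≤ q ^ 3 := by
    by_cases c : p = r
    · refine Nat.le_of_dvd (by positivity) (Nat.Coprime.dvd_of_dvd_mul_right ?_ e3)
      rw [hf, c]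
      exact Nat.Coprime.pow_left _ (Nat.Coprime.pow_left _ ((Nat.Prime.coprime_iff_not_dvd h.pr).2
        fun e => h.not_dvd_r (e.mul_left m)))
    · obtain ⟨l, hl⟩ := h.pw
      have c2 : (f ^ (2 * n)).Coprime (q ^ 3) := by
        rw [hf, hl]
        exact Nat.Coprime.pow _ _ (Nat.Coprime.pow _ _ ((Nat.coprime_primes hp h.pr).2 c))
      obtain ⟨g, rfl⟩ : ∃ g, q = g + 2 := ⟨q - 2, by omega⟩
      rw [show g + 2 - 1 = g + 1 from rfl] at e3
      refine (Nat.le_of_dvd (by positivity) (c2.dvd_of_dvd_mul_left e3)).trans ?_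
      nlinarith [sq_nonneg g]
  have l3 : 8 ≤ f ^ n := (Nat.pow_le_pow_left h2 3).trans (Nat.pow_le_pow_right (by omega) hn)
  rw [pow_mul', sq] at l2
  generalize f ^ n = a at *
  have l4 := Nat.pow_lt_pow_left l1 three_ne_zero
  have l5 := Nat.mul_le_mul l2 l2
  have : 0 < a ^ 3 := pow_pos (by omega) 3
  nlinarith

end ID

open CfsgH5 CfsgH6 CfsgFT

theorem FL.psl {G : Type u} [Group G] [Finite G] [IsSimpleGroup G] {q r d m e : ℕ} {Zs : Set G}
    {E : Subgroup G} (F : FL G q r Zs E) (V : VZ G q r d m e Zs) (T : Two G q)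
    (hN : (N E).index = q ^ 2 + q + 1) {K : Type*} [Field K] [Fintype K]
    (hK : Fintype.card K = q) : Nonempty (G ≃* Matrix.ProjectiveSpecialLinearGroup (Fin 3) K) := by
  classical
  let _ := Fintype.ofFinite (G ⧸ N E)
  have q2 := V.par.q2
  have hX : Nat.card (G ⧸ N E) = q ^ 2 + q + 1 := hN
  have st := MulAction.stabilizer_quotient (N E)
  have : FaithfulSMul G (G ⧸ N E) := by
    rcases (MulAction.toPermHom G (G ⧸ N E)).normal_ker.eq_bot_or_eq_top with c | c
    · exact ⟨fun {a b} hab => (MonoidHom.ker_eq_bot_iff _).1 c (Equiv.ext hab)⟩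
    · have : N E = ⊤ := eq_top_iff.2 fun g _ => by
        have : g ∈ (MulAction.toPermHom G (G ⧸ N E)).ker := c ▸ trivial
        rw [← st]; exact Equiv.congr_fun this ((1 : G) : G ⧸ N E)
      rw [this, Subgroup.index_top] at hN
      nlinarith
  obtain ⟨n, L, _, _, hn, hc, M, hM, ⟨φ⟩, hC⟩ := ID.onan (G := G) (X := G ⧸ N E)
    (MulAction.is_two_pretransitive_iff.2 fun {a b c d} =>
      T _ hX (MulAction.exists_smul_eq G) a b c d) ((1 : G) : G ⧸ N E) E (st.symm ▸ le_N E)
    (fun g hg x hx => conj_mem_of_mem_N (st ▸ hg) hx) (fun a ha b hb => mem_C.1 (F.comm hb) a ha) (by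
      by_contra c
      have := CfsgH1.Q4.card_dvd_of_free (E := E) (S := {((1 : G) : G ⧸ N E)}ᶜ)
        (fun a ha x hx e => hx (smul_left_cancel a (Eq.trans e
          (Eq.symm (show a ∈ MulAction.stabilizer G _ from st.symm ▸ le_N E ha)))))
        fun a ha x hx e => by_contra fun a1 => c ⟨a, ha, a1, x, hx, e⟩
      rw [F.cardE, Set.ncard_compl, hX, Set.ncard_singleton, Nat.add_sub_cancel,
        Nat.dvd_add_right dvd_rfl] at this
      have := Nat.le_of_dvd (by omega) this
      nlinarith)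
  obtain rfl : M = ⊤ := hM.eq_bot_or_eq_top.resolve_left fun c => by
    rw [c] at hC
    obtain ⟨g, hg⟩ := exists_ne (1 : G)
    exact hg (Subgroup.mem_bot.1 (hC ▸ fun x hx => by rw [Subgroup.mem_bot.1 hx]; simp))
  let ψ := Subgroup.topEquiv.symm.trans φ
  have f2 : 2 ≤ Fintype.card L := Fintype.one_lt_card
  obtain rfl : n = 2 := by
    by_contra c
    obtain ⟨p, _, k, hp, hk⟩ := FiniteField.card' L
    exact ID.arith V.par hp hk f2 (by omega) (hX.symm.trans hc)
      (V.card ▸ Nat.card_congr ψ.toEquiv ▸ ID.pow_dvd_psl n (by omega) L)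
  rw [hX, ← Nat.geomSum_eq f2] at hc
  simp only [Finset.sum_range_succ, Finset.range_zero, Finset.sum_empty] at hc
  obtain ⟨χ⟩ := nonempty_psl_congr (n := 3) (F := L) (K := K) (by
    rw [hK]
    rcases lt_trichotomy (Fintype.card L) q with c | c | c
    · nlinarith
    · exact c
    · nlinarith)
  exact ⟨ψ.trans χ⟩

end CfsgW3
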