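import Cfsg.Agent.H7.W3Par
import Cfsg.Agent.H6.CITSimple
import Cfsg.Agent.H6.PSLSmall
import Cfsg.Agent.FT.Main

/-! S3422, piece (Q24): the cases `q = 2` and `q = 4`. -/

set_option autoImplicit false

namespace CfsgW3

open Matrix CfsgH6
open scoped MatrixGroups

variable {q r d m e : ℕ}

theorem Sp.small_aux {G : Type*} [Group G] [Finite G] [IsSimpleGroup G] (h : Sp G q r d m e)
    (hq : q = 2 ∨ q = 4) : ∃ (F : Type) (_ : Field F) (_ : Fintype F),
      (q = 2 ∧ Fintype.card F = 7 ∧ Nonempty (G ≃* PSL(2, F))) ∨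
      (q = 4 ∧ Fintype.card F = 4 ∧ Nonempty (G ≃* PSL(3, F))) := by
  have hr : r = 2 := (Nat.prime_dvd_prime_iff_eq h.par.pr Nat.prime_two).1
    (h.par.pr.dvd_of_dvd_pow (n := 2) (h.par.r_dvd.trans (by rcases hq with rfl | rfl <;> norm_num)))
  have hd := h.par.d_cases
  have hm := h.par.hm
  have he := h.par.he
  obtain ⟨rfl, rfl⟩ : m = 7 ∧ e = 1 := by
    rcases hq with rfl | rfl <;> rcases hd with ⟨rfl, _⟩ | ⟨rfl, _⟩ <;> omega
  subst hr
  have hc : q = 2 ∧ Nat.card G = 168 ∨ q = 4 ∧ Nat.card G = 20160 := by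
    rw [h.card]; rcases hq with rfl | rfl <;> simp [ord]
  have key : ∀ t x : G, orderOf t = 2 → Commute x t → x ^ 4 = 1 := fun t x ht c => by
    by_cases c2 : 2 ∣ orderOf x
    · exact h.mix x c2
    have := h.mix (x * t) (by
      rw [c.orderOf_mul_eq_mul_orderOf_of_coprime (by
        rw [ht]; exact ((Nat.Prime.coprime_iff_not_dvd Nat.prime_two).2 c2).symm), ht]
      exact dvd_mul_left _ _)
    rwa [c.mul_pow, (orderOf_dvd_iff_pow_eq_one (x := t)).1 (by rw [ht]; norm_num),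
      mul_one] at this
  have hns := not_solvable_of_simple (G := G) (by
    by_contra c
    push Not at c
    obtain ⟨t, ht⟩ := h.exr
    obtain ⟨x, hx⟩ := h.exm
    have := orderOf_dvd_of_pow_eq_one (key t x ht (c x t))
    rw [hx] at this
    norm_num at this)
  rcases cit_simple_class hns (CfsgSZ.two_dvd_of_not_solvable hns) (fun t ht x => ⟨2, Subtype.ext
    (key t x ht (Subgroup.mem_centralizer_singleton_iff.1 x.2))⟩) with
    ⟨F, _, _, -, ⟨φ⟩⟩ | ⟨F, _, _, hF, ⟨φ⟩⟩ | ⟨-, k, hk, c⟩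
  · have c := Nat.card_congr φ.toEquiv
    have : Nat.card G = Fintype.card F * (Fintype.card F ^ 2 - 1) ∨
        2 * Nat.card G = Fintype.card F * (Fintype.card F ^ 2 - 1) := by
      rw [c]
      rcases Nat.even_or_odd (Fintype.card F) with o | o
      · have : CharP F 2 := by
          rw [← FiniteField.even_card_iff_char_two.2 (Nat.even_iff.1 o)]; infer_instance
        exact .inl (card_psl2_char_two F)
      · exact .inr (two_mul_card_psl2_odd F o)
    refine ⟨F, inferInstance, inferInstance, .inl ?_⟩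
    suffices q = 2 ∧ Fintype.card F = 7 from ⟨this.1, this.2, ⟨φ⟩⟩
    generalize Fintype.card F = f at this
    have l : f < 40 := by
      by_contra l
      have : 40 * 1599 ≤ f * (f ^ 2 - 1) :=
        Nat.mul_le_mul (by omega) (Nat.le_sub_one_of_lt (by nlinarith))
      omega
    interval_cases f <;> omega
  · have := (card_psl3_four F hF).2
    rw [← Nat.card_congr φ.toEquiv] at this
    exact ⟨F, inferInstance, inferInstance, .inr ⟨by omega, hF, ⟨φ⟩⟩⟩
  · have : 2 ^ 3 ≤ 2 ^ (2 * k + 1) := Nat.pow_le_pow_right two_pos (by omega)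
    generalize 2 ^ (2 * k + 1) = f at *
    have : 64 * 65 * 7 ≤ f ^ 2 * (f ^ 2 + 1) * (f - 1) :=
      Nat.mul_le_mul (Nat.mul_le_mul (by nlinarith) (by nlinarith)) (by omega)
    omega

theorem Sp.small {G G' : Type*} [Group G] [Finite G] [Group G'] [Finite G'] [IsSimpleGroup G]
    [IsSimpleGroup G'] (h : Sp G q r d m e) (h' : Sp G' q r d m e) (hq : q = 2 ∨ q = 4) :
    Nonempty (G ≃* G') := by
  obtain ⟨F, _, _, c⟩ := h.small_aux hq
  obtain ⟨K, _, _, c'⟩ := h'.small_aux hq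
  rcases c with ⟨a, b, ⟨φ⟩⟩ | ⟨a, b, ⟨φ⟩⟩ <;> rcases c' with ⟨a', b', ⟨ψ⟩⟩ | ⟨a', b', ⟨ψ⟩⟩ <;>
    first
    | omega
    | exact (nonempty_psl_congr (b.trans b'.symm)).map fun χ => (φ.trans χ).trans ψ.symm

end CfsgW3
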