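import Mathlib

set_option autoImplicit false
set_option linter.style.haveILetI false

/-! A doubly transitive block of a cyclic regular linear group over the field of order two. -/

namespace CfsgSE

theorem lin_sub {L W : Type*} [Group L] [Finite L] [CommGroup W] [Finite W]
    [MulDistribMulAction L W] {S S1 Z : Subgroup L} {v : W}
    (faith : ∀ g : L, (∀ v : W, g • v = v) → g = 1) (sq : ∀ v : W, v * v = 1) (cyc : IsCyclic S)
    (tr : ∀ v w : W, v ≠ 1 → w ≠ 1 → ∃ s ∈ S, s • v = w) (h1 : S1 ≤ S) (hne : S1 ≠ ⊥)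
    (h2 : S1 ≤ Z) (blk : ∀ g ∈ Z, ∀ w : W, ∃ s ∈ S1, g • w = s • w) (hv : v ≠ 1)
    (two : ∀ a ∈ S1, ∀ b ∈ S1, ∀ c ∈ S1, ∀ d ∈ S1, a • v ≠ b • v → c • v ≠ d • v →
      ∃ g ∈ Z, g • a • v = c • v ∧ g • b • v = d • v) :
    ∀ w : W, w ≠ 1 → ∃ s ∈ S1, s • v = w := by
  classical
  letI : Fintype S1 := Fintype.ofFinite S1
  have cm : ∀ s ∈ S, ∀ t ∈ S, s * t = t * s := fun s hs t ht => by
    letI : CommGroup S := IsCyclic.commGroup
    exact congrArg Subtype.val (mul_comm (⟨s, hs⟩ : S) ⟨t, ht⟩)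
  have ne1 : ∀ (g : L) (w : W), w ≠ 1 → g • w ≠ 1 := fun g w hw h =>
    hw (by rw [← inv_smul_smul g w, h, smul_one])
  have sr : ∀ s ∈ S, ∀ w : W, w ≠ 1 → s • w = w → s = 1 := fun s hs w hw h => faith s fun u => by
    by_cases hu : u = 1
    · rw [hu, smul_one]
    · obtain ⟨t, ht, rfl⟩ := tr w u hw hu
      rw [← mul_smul, cm s hs t ht, mul_smul, h]
  have inv : ∀ x : W, x⁻¹ = x := fun x => inv_eq_of_mul_eq_one_right (sq x)
  have mne : ∀ x y : W, x ≠ y → x * y ≠ 1 := fun x y h e =>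
    h (by rw [← inv y]; exact eq_inv_of_mul_eq_one_left e)
  let O : W → Finset W := fun w => Finset.univ.image fun s : S1 => (s : L) • w
  have mO : ∀ w x, x ∈ O w ↔ ∃ s ∈ S1, s • w = x := fun w x => by
    simp only [O, Finset.mem_image, Finset.mem_univ, true_and]
    exact ⟨fun ⟨s, e⟩ => ⟨s, s.2, e⟩, fun ⟨s, h, e⟩ => ⟨⟨s, h⟩, e⟩⟩
  have cO : ∀ w, w ≠ 1 → (O w).card = Fintype.card S1 := fun w hw => by
    rw [Finset.card_image_of_injective, Finset.card_univ]
    intro s t h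
    have : (t : L)⁻¹ * s = 1 := sr _ (h1 (S1.mul_mem (S1.inv_mem t.2) s.2)) w hw (by
      rw [mul_smul, inv_smul_eq_iff]; exact h)
    exact Subtype.ext (inv_mul_eq_one.1 this).symm
  have self : ∀ w, w ∈ O w := fun w => (mO w w).2 ⟨1, S1.one_mem, one_smul _ _⟩
  have zO : ∀ w, ∀ g ∈ Z, ∀ x ∈ O w, g • x ∈ O w := fun w g hg x hx => by
    obtain ⟨s, hs, rfl⟩ := (mO w x).1 hx
    obtain ⟨t, ht, e⟩ := blk g hg (s • w)
    exact (mO w _).2 ⟨t * s, S1.mul_mem ht hs, by rw [e, mul_smul]⟩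
  have trO : ∀ w x y, x ∈ O w → y ∈ O x → y ∈ O w := fun w x y hx hy => by
    obtain ⟨s, hs, rfl⟩ := (mO x y).1 hy
    exact zO w s (h2 hs) x hx
  have syO : ∀ w x, x ∈ O w → w ∈ O x := fun w x hx => by
    obtain ⟨s, hs, rfl⟩ := (mO w x).1 hx
    exact (mO _ _).2 ⟨s⁻¹, S1.inv_mem hs, inv_smul_smul _ _⟩
  have neO : ∀ w x, w ≠ 1 → x ∈ O w → x ≠ 1 := fun w x hw hx => by
    obtain ⟨s, -, rfl⟩ := (mO w x).1 hx
    exact ne1 s w hw
  have two' : ∀ x ∈ O v, ∀ y ∈ O v, ∀ x' ∈ O v, ∀ y' ∈ O v, x ≠ y → x' ≠ y' →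
      ∃ g ∈ Z, g • x = x' ∧ g • y = y' := fun x hx y hy x' hx' y' hy' e e' => by
    obtain ⟨a, ha, rfl⟩ := (mO v x).1 hx
    obtain ⟨b, hb, rfl⟩ := (mO v y).1 hy
    obtain ⟨c, hc, rfl⟩ := (mO v x').1 hx'
    obtain ⟨d, hd, rfl⟩ := (mO v y').1 hy'
    exact two a ha b hb c hc d hd e e'
  obtain ⟨s0, hs0, hs1⟩ := S1.bot_or_exists_ne_one.resolve_left hne
  have pr : ∏ x ∈ O v, x = 1 := by
    by_contra h
    refine hs1 (sr s0 (h1 hs0) _ h ?_)
    rw [Finset.smul_prod']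
    refine Finset.prod_bij (fun x _ => s0 • x) (fun x hx => zO v s0 (h2 hs0) x hx)
      (fun x _ y _ e => smul_left_cancel s0 e) (fun y hy => ⟨s0⁻¹ • y,
        zO v _ (Z.inv_mem (h2 hs0)) y hy, smul_inv_smul _ _⟩) fun _ _ => rfl
  have cl : ∀ x ∈ O v, ∀ y ∈ O v, x ≠ y → x * y ∈ O v := by
    intro x hx y hy hxy
    have hz := mne x y hxy
    have sub : ((O v).erase v).image (fun u => v * u) ⊆ O (x * y) := by
      intro w hw
      obtain ⟨u, hu, rfl⟩ := Finset.mem_image.1 hw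
      obtain ⟨g, hg, e1, e2⟩ := two' x hx y hy v (self v) u (Finset.mem_of_mem_erase hu) hxy
        (Finset.ne_of_mem_erase hu).symm
      have := zO _ g hg _ (self (x * y))
      rwa [smul_mul', e1, e2] at this
    have cd : (O (x * y) \ ((O v).erase v).image (fun u => v * u)).card = 1 := by
      rw [Finset.card_sdiff_of_subset sub, Finset.card_image_of_injective _ (mul_right_injective v),
        Finset.card_erase_of_mem (self v), cO _ hz, cO _ hv]
      have : 0 < Fintype.card S1 := Fintype.card_pos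
      omega
    obtain ⟨w0, hw0⟩ := Finset.card_eq_one.1 cd
    have m0 : w0 ∈ O (x * y) \ ((O v).erase v).image (fun u => v * u) := by
      rw [hw0]; exact Finset.mem_singleton_self _
    obtain ⟨m1, m2⟩ := Finset.mem_sdiff.1 m0
    have w1 : w0 ≠ 1 := neO _ _ hz m1
    have oth : ∀ w ∈ O (x * y), w ≠ w0 → v * w ∈ O v := fun w hw e => by
      by_contra h
      refine e (Finset.mem_singleton.1 (hw0 ▸ Finset.mem_sdiff.2 ⟨hw, fun h' => h ?_⟩))
      obtain ⟨u, hu, rfl⟩ := Finset.mem_image.1 h'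
      rw [← mul_assoc, sq, one_mul]
      exact Finset.mem_of_mem_erase hu
    have nv : v * w0 ∉ O v := fun h => m2 (Finset.mem_image.2 ⟨v * w0, Finset.mem_erase.2
      ⟨fun e => w1 (mul_eq_left.1 e), h⟩, by rw [← mul_assoc, sq, one_mul]⟩)
    have mem : ∀ u ∈ (O v).erase v, u * w0 ∈ (O v).erase v := fun u hu => by
      obtain ⟨e, hu'⟩ := Finset.mem_erase.1 hu
      refine Finset.mem_erase.2 ⟨fun e' => nv ?_, ?_⟩
      · have a0 : v * w0 = u := by rw [← e', mul_assoc, sq, mul_one]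
        rw [a0]; exact hu'
      · obtain ⟨s, hs, rfl⟩ := (mO v u).1 hu'
        have a1 : s⁻¹ • w0 ≠ w0 := fun h => e (by
          rw [inv_eq_one.1 (sr _ (h1 (S1.inv_mem hs)) w0 w1 h), one_smul])
        have := zO v s (h2 hs) _ (oth _ (zO _ _ (Z.inv_mem (h2 hs)) _ m1) a1)
        rwa [smul_mul', smul_inv_smul] at this
    have pq : ∏ u ∈ (O v).erase v, QuotientGroup.mk' (Subgroup.zpowers w0) u = 1 := by
      refine Finset.prod_involution (fun u _ => u * w0) (fun u _ => ?_)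
        (fun u _ _ e => w1 (mul_eq_left.1 e)) mem fun u _ => by rw [mul_assoc, sq, mul_one]
      rw [← map_mul, ← mul_assoc, sq, one_mul]
      exact (QuotientGroup.eq_one_iff _).2 (Subgroup.mem_zpowers _)
    rw [← map_prod] at pq
    have p1 := (QuotientGroup.eq_one_iff _).1 pq
    rw [← Finset.mul_prod_erase _ _ (self v)] at pr
    rw [eq_inv_of_mul_eq_one_right pr, inv] at p1
    obtain ⟨n, hn⟩ := mem_powers_iff_mem_zpowers.2 p1
    simp only at hn
    have pw : ∀ n : ℕ, w0 ^ n = 1 ∨ w0 ^ n = w0 := fun n => by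
      induction n with
      | zero => left; simp
      | succ n ih =>
        rcases ih with h | h
        · right; rw [pow_succ, h, one_mul]
        · left; rw [pow_succ, h, sq]
    have e0 : w0 = v := by
      rcases pw n with h | h
      · exact absurd (hn ▸ h) hv
      · exact h ▸ hn
    exact syO _ _ (e0 ▸ m1)
  intro w hw
  by_contra hc
  have hw' : w ∉ O v := fun h => hc ((mO v w).1 h)
  obtain ⟨t, ht, rfl⟩ := tr v w hv hw
  have tO : ∀ y ∈ O (t • v), t⁻¹ • y ∈ O v := fun y hy => by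
    obtain ⟨s, hs, rfl⟩ := (mO _ y).1 hy
    refine (mO _ _).2 ⟨s, hs, ?_⟩
    rw [← mul_smul s, cm s (h1 hs) t ht, mul_smul, inv_smul_smul]
  have tO' : ∀ y ∈ O v, t • y ∈ O (t • v) := fun y hy => by
    obtain ⟨s, hs, rfl⟩ := (mO _ y).1 hy
    refine (mO _ _).2 ⟨s, hs, ?_⟩
    rw [← mul_smul, cm s (h1 hs) t ht, mul_smul]
  have spl : ∀ g ∈ Z, ∀ x ∈ O v, g • (x * t • v) = x * t • v → g • x = x ∧ g • t • v = t • v := by
    intro g hg x hx e
    rw [smul_mul'] at e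
    have e2 : g • x * x = g • t • v * t • v := by
      calc g • x * x = g • x * g • t • v * (g • t • v * x) := by
            rw [mul_assoc, ← mul_assoc (g • t • v), sq, one_mul]
        _ = x * x * (g • t • v * t • v) := by rw [e]; ac_rfl
        _ = _ := by rw [sq, one_mul]
    by_cases e1 : g • x = x
    · exact ⟨e1, by rwa [e1, mul_right_inj] at e⟩
    · exfalso
      have a1 := cl _ (zO v g hg x hx) _ hx e1
      have a2 : g • t • v ≠ t • v := fun h => mne _ _ e1 (by rw [e2, h, sq])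
      have a3 := tO' _ (cl _ (tO _ (zO _ g hg _ (self (t • v)))) _ (tO _ (self (t • v)))
        fun h => a2 (smul_left_cancel _ h))
      rw [smul_mul', smul_inv_smul, smul_inv_smul, ← e2] at a3
      exact hw' (trO _ _ _ a1 (syO _ _ a3))
  have key : ∀ g ∈ Z, ∀ x ∈ O v, (g • x = x ↔ g • t • v = t • v) := by
    intro g hg x hx
    obtain ⟨s, hs, e⟩ := blk g hg (x * t • v)
    obtain ⟨e1, e2⟩ := spl (s⁻¹ * g) (Z.mul_mem (Z.inv_mem (h2 hs)) hg) x hx (by
      rw [mul_smul, e, inv_smul_smul])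
    rw [mul_smul, inv_smul_eq_iff] at e1 e2
    constructor
    · intro h
      rw [e2, sr s (h1 hs) x (neO _ _ hv hx) (e1.symm.trans h), one_smul]
    · intro h
      rw [e1, sr s (h1 hs) _ hw (e2.symm.trans h), one_smul]
  have b1 : s0 • v ∈ O v := zO v s0 (h2 hs0) v (self v)
  have b2 : v ≠ s0 • v := fun h => hs1 (sr s0 (h1 hs0) v hv h.symm)
  have b3 := cl _ (self v) _ b1 b2
  obtain ⟨g, hg, e1, e2⟩ := two' v (self v) _ b1 v (self v) _ b3 b2
    fun h => ne1 s0 v hv (left_eq_mul.1 h)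
  have := (key g hg _ b1).2 ((key g hg v (self v)).1 e1)
  rw [this] at e2
  exact hv (right_eq_mul.1 e2)

end CfsgSE
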