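import Cfsg.Agent.H4.OA4

/-!
Maximal intersections of components at two points: the matching case.
-/

set_option autoImplicit false

namespace CfsgOL

open MulAction Subgroup CfsgOA

variable {G Ω : Type*} [Group G] [MulAction G Ω]

theorem le_of_simple {T P : Subgroup G} (hT : IsSimpleGroup T)
    (hn : ∀ t ∈ T, ∀ p ∈ T, p ∈ P → t * p * t⁻¹ ∈ P) {z : G} (hz : z ∈ T) (z1 : z ≠ 1)
    (zP : z ∈ P) : T ≤ P := by
  have nrm : (P.subgroupOf T).Normal := ⟨fun p hp t => hn t t.2 p p.2 hp⟩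
  rcases hT.eq_bot_or_eq_top_of_normal _ nrm with e | e
  · have : (⟨z, hz⟩ : T) ∈ P.subgroupOf T := zP
    rw [e] at this
    exact absurd (congrArg Subtype.val (mem_bot.1 this)) z1
  · intro t ht
    have : (⟨t, ht⟩ : T) ∈ P.subgroupOf T := e ▸ mem_top _
    exact this

theorem four_le_index {H : Type*} [Group H] [Finite H] [IsSimpleGroup H]
    (nc : ∃ a b : H, a * b ≠ b * a) {K : Subgroup H} (hK : K ≠ ⊤) : 4 ≤ K.index := by
  classical
  by_contra hlt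
  obtain ⟨a, b, ab⟩ := nc
  have := Fintype.ofFinite (H ⧸ K)
  have inj : Function.Injective (toPermHom H (H ⧸ K)) := by
    rw [← MonoidHom.ker_eq_bot_iff, ← normalCore_eq_ker]
    rcases IsSimpleGroup.eq_bot_or_eq_top_of_normal K.normalCore inferInstance with e | e
    · exact e
    · exact absurd (top_le_iff.1 (e ▸ K.normalCore_le)) hK
  have i1 : 1 < K.index := one_lt_index_of_ne_top hK
  have hc : Fintype.card (H ⧸ K) = K.index := by rw [index_eq_card, Nat.card_eq_fintype_card]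
  haveI : Nontrivial (H ⧸ K) := Fintype.one_lt_card_iff_nontrivial.1 (by omega)
  rcases IsSimpleGroup.eq_bot_or_eq_top_of_normal
    (Equiv.Perm.sign.comp (toPermHom H (H ⧸ K))).ker inferInstance with e | e
  · rw [MonoidHom.ker_eq_bot_iff] at e
    exact ab (e (by rw [map_mul, map_mul, mul_comm]))
  · have mem : ∀ g : H, toPermHom H (H ⧸ K) g ∈ alternatingGroup (H ⧸ K) := fun g => by
      have : g ∈ (Equiv.Perm.sign.comp (toPermHom H (H ⧸ K))).ker := e ▸ mem_top _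
      exact Equiv.Perm.mem_alternatingGroup.2 this
    have inj2 : Function.Injective
        (fun g : H => (⟨toPermHom H (H ⧸ K) g, mem g⟩ : alternatingGroup (H ⧸ K))) :=
      fun g g' e => inj (congrArg Subtype.val e)
    have c1 := Nat.card_le_card_of_injective _ inj2
    rw [nat_card_alternatingGroup, ← index_eq_card] at c1
    have c2 : 1 < Nat.card H := Finite.one_lt_card
    have c3 : K.index = 2 ∨ K.index = 3 := by omega
    have c4 : Nat.card H ≤ 3 := by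
      rcases c3 with e | e <;> rw [e] at c1 <;> simp [Nat.factorial] at c1 <;> omega
    have c5 : (Nat.card H).Prime := by
      have : Nat.card H = 2 ∨ Nat.card H = 3 := by omega
      rcases this with e | e <;> rw [e] <;> norm_num
    haveI := Fact.mk c5
    haveI : IsCyclic H := isCyclic_of_prime_card rfl
    obtain ⟨g, hg⟩ := IsCyclic.exists_generator (α := H)
    obtain ⟨i, rfl⟩ := mem_zpowers_iff.1 (hg a)
    obtain ⟨j, rfl⟩ := mem_zpowers_iff.1 (hg b)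
    exact ab (zpow_mul_comm g i j)

/-- elements whose conjugation fixes a subgroup -/
def St (Z : Subgroup G) : Subgroup G where
  carrier := {g | cg g Z = Z}
  one_mem' := cg_one Z
  mul_mem' := fun {a b} ha hb => by
    change cg (a * b) Z = Z
    rw [← cg_cg, show cg b Z = Z from hb, show cg a Z = Z from ha]
  inv_mem' := fun {a} ha => by
    change cg a⁻¹ Z = Z
    conv_lhs => rw [← show cg a Z = Z from ha, cg_cg, inv_mul_cancel, cg_one]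

theorem mem_St {Z : Subgroup G} {g : G} : g ∈ St Z ↔ cg g Z = Z := Iff.rfl

theorem many_conj [Finite G] {T Z : Subgroup G} (hT : IsSimpleGroup T) (nc : NC T) (le : Z ≤ T)
    (z0 : Z ≠ ⊥) (zT : ¬ T ≤ Z) (A B D : Subgroup G) :
    ∃ n ∈ T, cg n Z ≠ A ∧ cg n Z ≠ B ∧ cg n Z ≠ D := by
  by_contra hh
  push Not at hh
  have ne : (St Z).subgroupOf T ≠ ⊤ := fun e => by
    obtain ⟨⟨z, hz⟩, z1⟩ := (ne_bot_iff_exists_ne_one).1 z0
    refine zT (le_of_simple hT (fun t ht p _ hp => ?_) (le hz)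
      (fun e => z1 (Subtype.ext e)) hz)
    have : (⟨t, ht⟩ : T) ∈ (St Z).subgroupOf T := e ▸ mem_top _
    have : cg t Z = Z := this
    rw [← this, mem_cg]
    simpa [mul_assoc] using hp
  have i4 := four_le_index (by
    obtain ⟨a, ha, b, hb, ab⟩ := nc
    exact ⟨⟨a, ha⟩, ⟨b, hb⟩, fun e => ab (congrArg Subtype.val e)⟩) ne
  have sub : ∀ q : T ⧸ (St Z).subgroupOf T, cg (q.out : G) Z ∈ ({A, B, D} : Set (Subgroup G)) := by
    intro q
    by_cases a : cg (q.out : G) Z = A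
    · simp [a]
    by_cases b : cg (q.out : G) Z = B
    · simp [b]
    simp [hh _ q.out.2 a b]
  have inj : Function.Injective fun q : T ⧸ (St Z).subgroupOf T =>
      (⟨_, sub q⟩ : ({A, B, D} : Set (Subgroup G))) := by
    intro q r e
    have e : cg (q.out : G) Z = cg (r.out : G) Z := congrArg Subtype.val e
    rw [← q.out_eq', ← r.out_eq', QuotientGroup.eq]
    change cg ((q.out : G)⁻¹ * r.out) Z = Z
    rw [← cg_cg, ← e, cg_cg, inv_mul_cancel, cg_one]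
  have c := Nat.card_le_card_of_injective _ inj
  rw [← index_eq_card, Nat.card_coe_set_eq] at c
  have c1 := Set.ncard_insert_le A ({B, D} : Set (Subgroup G))
  have c2 := Set.ncard_insert_le B ({D} : Set (Subgroup G))
  rw [Set.ncard_singleton] at c2
  omega

theorem fix_all {T : Subgroup G} (hT : IsSimpleGroup T) {b : G} (hb : b ∈ T) (b1 : b ≠ 1)
    {w : Ω} (h : ∀ n ∈ T, b • n • w = n • w) : ∀ t ∈ T, t • w = w := by
  have := le_of_simple (P := ⨅ n ∈ T, stabilizer G (n • w)) hT (fun t ht p _ hp => by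
    simp only [mem_iInf, mem_stabilizer_iff] at hp ⊢
    intro n hn
    have := hp (t⁻¹ * n) (T.mul_mem (T.inv_mem ht) hn)
    rw [mul_smul] at this
    rw [mul_smul, mul_smul, this, smul_inv_smul]) hb b1 (by
      simp only [mem_iInf, mem_stabilizer_iff]; exact h)
  intro t ht
  have h2 := this ht
  simp only [mem_iInf, mem_stabilizer_iff] at h2
  simpa using h2 1 T.one_mem

variable {C : Ω → Set (Subgroup G)}

/-- some component at `z` contains `Z` -/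
def D (C : Ω → Set (Subgroup G)) (Z : Subgroup G) (z : Ω) : Prop := ∃ T ∈ C z, Z ≤ T

/-- subgroups of order `a` inside components at both points -/
def E (C : Ω → Set (Subgroup G)) (a : ℕ) (x y : Ω) : Set (Subgroup G) :=
  {Z | Nat.card Z = a ∧ D C Z x ∧ D C Z y}

theorem D.cj (h : CF C) {Z : Subgroup G} {z : Ω} (d : D C Z z) (g : G) :
    D C (cg g Z) (g • z) := by
  obtain ⟨T, hT, le⟩ := d
  exact ⟨_, h.cj g z T hT, map_mono le⟩

theorem D.fix (h : CF C) {Z : Subgroup G} {z : Ω} (d : D C Z z) {b : G} (hb : b ∈ Z) :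
    b • z = z := by
  obtain ⟨T, hT, le⟩ := d
  exact h.fix z T hT b (le hb)

theorem E_card (h : CF C) (two : Two G Ω) (a : ℕ) {x y z w : Ω} (xy : x ≠ y) (zw : z ≠ w) :
    (E C a z w).ncard = (E C a x y).ncard := by
  obtain ⟨g, rfl, rfl⟩ := two x y z w xy zw
  rw [← Set.ncard_image_of_injective (E C a x y) (cg_inj g)]
  congr 1
  ext Z
  constructor
  · rintro ⟨c, d1, d2⟩
    refine ⟨cg g⁻¹ Z, ⟨by rw [card_cg, c], ?_, ?_⟩, by rw [cg_cg, mul_inv_cancel, cg_one]⟩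
    · simpa using d1.cj h g⁻¹
    · simpa using d2.cj h g⁻¹
  · rintro ⟨Y, ⟨c, d1, d2⟩, rfl⟩
    exact ⟨by rw [card_cg, c], d1.cj h g, d2.cj h g⟩

theorem cen (h : CF C) {x : Ω} {T T' Z : Subgroup G} (hT : T ∈ C x) (hT' : T' ∈ C x)
    (ne : T ≠ T') (le : Z ≤ T') {t : G} (ht : t ∈ T) : cg t Z = Z := by
  ext u
  rw [mem_cg]
  constructor
  · intro hu
    have := h.comm x T hT T' hT' ne t ht _ (le hu)
    have e2 : u = t⁻¹ * u * t := by
      calc u = t * (t⁻¹ * u * t) * t⁻¹ := by group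
        _ = _ := by rw [this]; group
    exact e2 ▸ hu
  · intro hu
    rw [mul_assoc, ← h.comm x T hT T' hT' ne t ht u (le hu), inv_mul_cancel_left]
    exact hu

theorem cg_le {T Z : Subgroup G} (le : Z ≤ T) {t : G} (ht : t ∈ T) : cg t Z ≤ T := by
  rintro _ ⟨z, hz, rfl⟩
  exact T.mul_mem (T.mul_mem ht (le hz)) (T.inv_mem ht)

theorem uniq (h : CF C) {x : Ω} {T T' Z : Subgroup G} (hT : T ∈ C x) (hT' : T' ∈ C x)
    (z0 : Z ≠ ⊥) (le : Z ≤ T) (le' : Z ≤ T') : T = T' := by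
  by_contra ne
  obtain ⟨⟨z, hz⟩, z1⟩ := (ne_bot_iff_exists_ne_one).1 z0
  have := le_of_simple (P := centralizer (T : Set G)) (h.simple x T hT) (fun t ht p _ hp => by
    rw [mem_centralizer_iff.1 hp t ht, mul_inv_cancel_right]; exact hp) (le hz)
    (fun e => z1 (Subtype.ext e))
    (mem_centralizer_iff.2 fun t ht => h.comm x T hT T' hT' ne t ht z (le' hz))
  obtain ⟨a, ha, b, hb, ab⟩ := h.nc x T hT
  exact ab (mem_centralizer_iff.1 (this hb) a ha)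

theorem moves [Finite G] [FaithfulSMul G Ω] (h : CF C) (two : Two G Ω) {x y : Ω} (xy : x ≠ y)
    {T Z : Subgroup G} (hT : T ∈ C x) (z0 : Z ≠ ⊥) (le : Z ≤ T) (d : D C Z y)
    (fx : ∀ t ∈ T, t • y = y) : False := by
  obtain ⟨U, hU, le'⟩ := d
  obtain ⟨⟨z, hz⟩, z1⟩ := (ne_bot_iff_exists_ne_one).1 z0
  have z1 : z ≠ 1 := fun e => z1 (Subtype.ext e)
  have k1 := le_of_simple (P := ⨅ V ∈ C y, St V) (h.simple x T hT) (fun t ht p _ hp => by
    simp only [mem_iInf, mem_St] at hp ⊢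
    intro V hV
    rw [← cg_cg, ← cg_cg, hp _ (h.cj' (fx _ (T.inv_mem ht)) hV), cg_cg, mul_inv_cancel, cg_one])
    (le hz) z1 (by
      simp only [mem_iInf, mem_St]
      exact fun V hV => h.cg_eq hU hV (le' hz))
  have k2 := le_of_simple (P := U) (h.simple x T hT) (fun t ht p _ hp => by
    have := k1 ht
    simp only [mem_iInf, mem_St] at this
    rw [← this U hU, mem_cg]
    simpa [mul_assoc] using hp) (le hz) z1 (le' hz)
  obtain ⟨g, gx, -⟩ := two x y y x xy xy.symm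
  obtain ⟨g', -, e⟩ := h.trans y _ (h.cj' gx hT) U hU
  have : T = U := eq_of_le_of_card_ge k2 (by rw [← e, card_cg, card_cg])
  exact xy (h.pt_eq two hT (this ▸ hU))

theorem key (h : CF C) {a : ℕ} {x w : Ω} {T Z : Subgroup G} (hT : T ∈ C x) {b : G} (hb : b ∈ T)
    (hZ : Z ∈ E C a x w) (n : ¬ Z ≤ T) : Z ∈ E C a w (b • w) := by
  obtain ⟨c, ⟨T', hT', le⟩, d⟩ := hZ
  have := d.cj h b
  rw [cen h hT hT' (fun e => n (e ▸ le)) le hb] at this
  exact ⟨c, d, this⟩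

/-- the matching hypothesis -/
def Mat (C : Ω → Set (Subgroup G)) (a : ℕ) : Prop :=
  ∀ x y, x ≠ y → ∀ T ∈ C x, ∀ Z ∈ E C a x y, ∀ Z' ∈ E C a x y, Z ≤ T → Z' ≤ T → Z = Z'

theorem card_minus [Finite G] {a : ℕ} (m : Mat C a) {x w : Ω} (xw : x ≠ w) {T : Subgroup G}
    (hT : T ∈ C x) : (E C a x w).ncard ≤ {Z ∈ E C a x w | ¬ Z ≤ T}.ncard + 1 := by
  have c1 : {Z ∈ E C a x w | Z ≤ T}.ncard ≤ 1 :=
    (Set.ncard_le_one_iff (Set.toFinite _)).2 fun hA hB => m x w xw T hT _ hA.1 _ hB.1 hA.2 hB.2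
  have c2 := Set.ncard_union_le {Z ∈ E C a x w | ¬ Z ≤ T} {Z ∈ E C a x w | Z ≤ T}
  have : {Z ∈ E C a x w | ¬ Z ≤ T} ∪ {Z ∈ E C a x w | Z ≤ T} = E C a x w := by
    ext Z
    simp only [Set.mem_union, Set.mem_setOf_eq]
    tauto
  rw [this] at c2
  omega

theorem ne_bot_of {a : ℕ} (a1 : 1 < a) {Z : Subgroup G} (c : Nat.card Z = a) : Z ≠ ⊥ := fun e => by
  rw [e, card_bot] at c
  omega

theorem not_le_of [Finite G] [FaithfulSMul G Ω] (h : CF C) (two : Two G Ω) {x y : Ω} (xy : x ≠ y)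
    {T Z : Subgroup G} (hT : T ∈ C x) (z0 : Z ≠ ⊥) (le : Z ≤ T) (d : D C Z y) : ¬ T ≤ Z :=
  fun e => moves h two xy hT z0 le d fun _ ht => d.fix h (e ht)

theorem three [Finite G] [FaithfulSMul G Ω] (h : CF C) (two : Two G Ω) {a : ℕ} (a1 : 1 < a)
    (m : Mat C a) {x y : Ω} (xy : x ≠ y) {Z1 Z2 Z3 : Subgroup G} (h1 : Z1 ∈ E C a x y)
    (h2 : Z2 ∈ E C a x y) (h3 : Z3 ∈ E C a x y) (n12 : Z1 ≠ Z2) (n13 : Z1 ≠ Z3)
    (n23 : Z2 ≠ Z3) : False := by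
  obtain ⟨T1, hT1, l1⟩ := h1.2.1
  obtain ⟨T2, hT2, l2⟩ := h2.2.1
  obtain ⟨T3, hT3, l3⟩ := h3.2.1
  obtain ⟨U1, hU1, k1⟩ := h1.2.2
  have t12 : T1 ≠ T2 := fun e => n12 (m x y xy T1 hT1 _ h1 _ h2 l1 (e ▸ l2))
  have t13 : T1 ≠ T3 := fun e => n13 (m x y xy T1 hT1 _ h1 _ h3 l1 (e ▸ l3))
  have t23 : T2 ≠ T3 := fun e => n23 (m x y xy T2 hT2 _ h2 _ h3 l2 (e ▸ l3))
  have z1 := ne_bot_of a1 h1.1
  have z2 := ne_bot_of a1 h2.1
  have z3 := ne_bot_of a1 h3.1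
  obtain ⟨n2, hn2, m2, -⟩ := many_conj (h.simple x T2 hT2) (h.nc x T2 hT2) l2 z2
    (not_le_of h two xy hT2 z2 l2 h2.2.2) Z2 Z2 Z2
  obtain ⟨n3, hn3, m3, -⟩ := many_conj (h.simple x T3 hT3) (h.nc x T3 hT3) l3 z3
    (not_le_of h two xy hT3 z3 l3 h3.2.2) Z3 Z3 Z3
  obtain ⟨⟨b, hb⟩, b1⟩ := (ne_bot_iff_exists_ne_one).1 z1
  have b1 : b ≠ 1 := fun e => b1 (Subtype.ext e)
  have fx := fix_all (w := n2 • n3 • y) (h.simple x T1 hT1) (l1 hb) b1 fun n1 hn1 => by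
    by_contra mv
    have gx : (n1 * n2 * n3) • x = x := by
      rw [mul_smul, mul_smul, h.fix x T3 hT3 n3 hn3, h.fix x T2 hT2 n2 hn2, h.fix x T1 hT1 n1 hn1]
    have gy : (n1 * n2 * n3) • y = n1 • n2 • n3 • y := by rw [mul_smul, mul_smul]
    have e2 : cg (n1 * n2 * n3) Z2 = cg n2 Z2 := by
      rw [← cg_cg, ← cg_cg, cen h hT3 hT2 t23.symm l2 hn3, cen h hT1 hT2 t12 (cg_le l2 hn2) hn1]
    have e3 : cg (n1 * n2 * n3) Z3 = cg n3 Z3 := by
      rw [← cg_cg, ← cg_cg, cen h hT2 hT3 t23 (cg_le l3 hn3) hn2,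
        cen h hT1 hT3 t13 (cg_le l3 hn3) hn1]
    have d2 := h2.2.2.cj h (n1 * n2 * n3)
    have d3 := h3.2.2.cj h (n1 * n2 * n3)
    rw [gy] at d2 d3
    rw [e2] at d2
    rw [e3] at d3
    generalize n1 • n2 • n3 • y = w at mv d2 d3
    have xw : x ≠ w := fun e => mv (e ▸ h1.2.1.fix h hb)
    have yw : y ≠ w := fun e => mv (e ▸ h1.2.2.fix h hb)
    have cA := card_minus m xw hT1
    have cB := card_minus m yw hU1
    rw [E_card h two a xy xw] at cA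
    rw [E_card h two a xy yw] at cB
    have cF := E_card h two a xy (Ne.symm mv)
    set A := {Z ∈ E C a x w | ¬ Z ≤ T1}
    set B := {Z ∈ E C a y w | ¬ Z ≤ U1}
    have s1 : A ∪ B ⊆ E C a w (b • w) := by
      rintro Z (hZ | hZ)
      · exact key h hT1 (l1 hb) hZ.1 hZ.2
      · exact key h hU1 (k1 hb) hZ.1 hZ.2
    have c1 := Set.ncard_le_ncard s1 (Set.toFinite _)
    have c2 := Set.ncard_union_add_ncard_inter A B (Set.toFinite _) (Set.toFinite _)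
    have o1 : Z1 ∉ A ∩ B := fun hZ => hZ.1.2 l1
    have o2 : Z2 ∉ A ∩ B := fun hZ => m2 (m x w xw T2 hT2 _
      ⟨by rw [card_cg, h2.1], ⟨T2, hT2, cg_le l2 hn2⟩, d2⟩ _ hZ.1.1 (cg_le l2 hn2) l2)
    have o3 : Z3 ∉ A ∩ B := fun hZ => m3 (m x w xw T3 hT3 _
      ⟨by rw [card_cg, h3.1], ⟨T3, hT3, cg_le l3 hn3⟩, d3⟩ _ hZ.1.1 (cg_le l3 hn3) l3)
    have s2 : insert Z1 (insert Z2 (insert Z3 (A ∩ B))) ⊆ E C a x y := by
      rintro Z (rfl | rfl | rfl | hZ)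
      · exact h1
      · exact h2
      · exact h3
      · exact ⟨hZ.1.1.1, hZ.1.1.2.1, hZ.2.1.2.1⟩
    have c3 := Set.ncard_le_ncard s2 (Set.toFinite _)
    rw [Set.ncard_insert_of_notMem (by rintro (e | e | e); exacts [n12 e, n13 e, o1 e]),
      Set.ncard_insert_of_notMem (by rintro (e | e); exacts [n23 e, o2 e]),
      Set.ncard_insert_of_notMem o3] at c3
    omega
  refine moves h two xy hT1 z1 l1 h1.2.2 fun t ht => ?_
  have := fx t ht
  rw [← mul_smul, h.comm x T1 hT1 T2 hT2 t12 t ht n2 hn2, mul_smul, smul_left_cancel_iff,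
    ← mul_smul, h.comm x T1 hT1 T3 hT3 t13 t ht n3 hn3, mul_smul, smul_left_cancel_iff] at this
  exact this

theorem two_case [Finite G] [FaithfulSMul G Ω] (h : CF C) (two : Two G Ω) {a : ℕ} (a1 : 1 < a)
    (m : Mat C a) {x y : Ω} (xy : x ≠ y) {Z1 Z2 : Subgroup G} (h1 : Z1 ∈ E C a x y)
    (h2 : Z2 ∈ E C a x y) (n12 : Z1 ≠ Z2) : False := by
  have tri : ∀ {z w : Ω}, z ≠ w → ∀ {A B D' : Subgroup G}, A ∈ E C a z w → B ∈ E C a z w →
      D' ∈ E C a z w → A ≠ B → A ≠ D' → B = D' := fun zw _ _ _ hA hB hD ab ad => by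
    by_contra bd
    exact three h two a1 m zw hA hB hD ab ad bd
  have c2 : ∀ {z w : Ω}, z ≠ w → 1 < (E C a z w).ncard := fun zw => by
    rw [E_card h two a xy zw]
    exact (Set.one_lt_ncard (Set.toFinite _)).2 ⟨Z1, h1, Z2, h2, n12⟩
  have oth : ∀ {z w : Ω}, z ≠ w → ∀ {T : Subgroup G}, T ∈ C z → ∃ Z ∈ E C a z w, ¬ Z ≤ T :=
    fun {z w} zw T hT => by
      have c := card_minus m zw hT
      have := c2 zw
      obtain ⟨Z, hZ⟩ := (Set.ncard_pos (s := {Z ∈ E C a z w | ¬ Z ≤ T}) (Set.toFinite _)).1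
        (by omega)
      exact ⟨Z, hZ.1, hZ.2⟩
  obtain ⟨T1, hT1, l1⟩ := h1.2.1
  obtain ⟨T2, hT2, l2⟩ := h2.2.1
  obtain ⟨U1, hU1, k1⟩ := h1.2.2
  obtain ⟨U2, hU2, k2⟩ := h2.2.2
  have t12 : T1 ≠ T2 := fun e => n12 (m x y xy T1 hT1 _ h1 _ h2 l1 (e ▸ l2))
  have u12 : U1 ≠ U2 := fun e => n12 (m y x xy.symm U1 hU1 _ ⟨h1.1, h1.2.2, h1.2.1⟩ _
    ⟨h2.1, h2.2.2, h2.2.1⟩ k1 (e ▸ k2))
  have z1 := ne_bot_of a1 h1.1
  have z2 := ne_bot_of a1 h2.1
  have mc := many_conj (h.simple x T2 hT2) (h.nc x T2 hT2) l2 z2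
    (not_le_of h two xy hT2 z2 l2 h2.2.2)
  obtain ⟨⟨b, hb⟩, b1⟩ := (ne_bot_iff_exists_ne_one).1 z1
  have b1 : b ≠ 1 := fun e => b1 (Subtype.ext e)
  have cc : ∀ g : G, Nat.card (cg g Z2) = a := fun g => by rw [card_cg, h2.1]
  have dx : ∀ g ∈ T2, D C (cg g Z2) x := fun g hg => ⟨T2, hT2, cg_le l2 hg⟩
  have d1 : ∀ g ∈ T2, D C Z1 (g • y) := fun g hg => by
    have := h1.2.2.cj h g
    rwa [cen h hT2 hT1 t12.symm l1 hg] at this
  have nx : ∀ g ∈ T2, x ≠ g • y := fun g hg e =>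
    xy ((smul_left_cancel_iff g).1 ((h.fix x T2 hT2 g hg).trans e))
  have s2 : ∀ g ∈ T2, ∀ n ∈ T2, D C (cg g Z2) (n • y) → cg g Z2 = cg n Z2 :=
    fun g hg n hn d => m x _ (nx n hn) T2 hT2 _ ⟨cc g, dx g hg, d⟩ _
      ⟨cc n, dx n hn, h2.2.2.cj h n⟩ (cg_le l2 hg) (cg_le l2 hn)
  have s1 : ∀ g ∈ T2, ∃ Y : Subgroup G, ∃ w, w ≠ g • y ∧ D C (cg g Z2) w ∧ D C Y w ∧
      Y ≠ cg g Z2 ∧ Z1 ≠ Y ∧ Nat.card Y = a ∧ ∀ z, D C Z1 z → D C (cg g Z2) z ∨ D C Y z := by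
    intro g hg
    obtain ⟨n, hn, mv⟩ : ∃ n ∈ T1, b • n • g • y ≠ n • g • y := by
      by_contra hh
      push Not at hh
      refine moves h two xy hT1 z1 l1 h1.2.2 fun t ht => ?_
      have := fix_all (h.simple x T1 hT1) (l1 hb) b1 hh t ht
      rwa [← mul_smul, h.comm x T1 hT1 T2 hT2 t12 t ht g hg, mul_smul, smul_left_cancel_iff]
        at this
    have dw := (h2.2.2.cj h g).cj h n
    rw [cen h hT1 hT2 t12 (cg_le l2 hg) hn] at dw
    generalize n • g • y = w at mv dw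
    have e1 : cg g Z2 ∈ E C a w (b • w) := key h hT1 (l1 hb) ⟨cc g, dx g hg, dw⟩ fun le =>
      t12 (uniq h hT1 hT2 (ne_bot_of a1 (cc g)) le (cg_le l2 hg))
    obtain ⟨Y, hY, nY⟩ := Set.exists_ne_of_one_lt_ncard (c2 (Ne.symm mv)) (cg g Z2)
    refine ⟨Y, w, fun e => mv (e ▸ (d1 g hg).fix h hb), dw, hY.2.1, nY,
      fun e => mv (D.fix h hY.2.1 (e ▸ hb)), hY.1, fun z dz => ?_⟩
    have zw : z ≠ w := fun e => mv (e ▸ dz.fix h hb)
    obtain ⟨T, hT, l⟩ := dz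
    obtain ⟨Z, hZ, nZ⟩ := oth zw hT
    by_cases e : cg g Z2 = Z
    · exact Or.inl (e ▸ hZ.2.1)
    · exact Or.inr (tri (Ne.symm mv) e1 hY (key h hT (l hb) hZ nZ) nY.symm e ▸ hZ.2.1)
  obtain ⟨Y, w, wy, dw, dY, nY, n1Y, cY, cov⟩ := s1 1 T2.one_mem
  rw [cg_one] at dw nY cov
  rw [one_smul] at wy
  have s3 : ∀ g ∈ T2, ∀ z, D C Z1 z → D C (cg g Z2) z ∨ D C Y z := by
    intro g hg
    obtain ⟨Y', -, -, -, -, -, n1Y', cY', cov'⟩ := s1 g hg
    obtain ⟨n, hn, a1, a2, -⟩ := mc Z2 (cg g Z2) Z2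
    obtain ⟨n', hn', b1, b2, b3⟩ := mc Z2 (cg g Z2) (cg n Z2)
    have nn : n • y ≠ n' • y := fun e => b3 (s2 n' hn' n hn (e ▸ h2.2.2.cj h n'))
    have f : ∀ n ∈ T2, cg n Z2 ≠ Z2 → D C Y (n • y) := fun n hn ne =>
      (cov _ (d1 n hn)).resolve_left fun d => ne (by
        have := s2 1 T2.one_mem n hn (by rwa [cg_one])
        rw [← this, cg_one])
    have f' : ∀ n ∈ T2, cg n Z2 ≠ cg g Z2 → D C Y' (n • y) := fun n hn ne =>
      (cov' _ (d1 n hn)).resolve_left fun d => ne (s2 g hg n hn d).symm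
    have : Y = Y' := tri nn ⟨h1.1, d1 n hn, d1 n' hn'⟩ ⟨cY, f n hn a1, f n' hn' b1⟩
      ⟨cY', f' n hn a2, f' n' hn' b2⟩ n1Y n1Y'
    exact this ▸ cov'
  obtain ⟨n, hn, mn, -⟩ := mc Z2 Z2 Z2
  have dy : D C Y y := (s3 n hn y h1.2.2).resolve_left fun d => mn (by
    have := s2 n hn 1 T2.one_mem (by rwa [one_smul])
    rw [this, cg_one])
  have s5 : ¬ D C Y x := fun d => nY (tri xy h1 ⟨cY, d, dy⟩ h2 n1Y n12)
  have s6 : ∀ z, D C Z1 z → ¬ D C Y z → x = z := fun z d nd => by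
    by_contra xz
    exact mn (m x z xz T2 hT2 _ ⟨cc n, dx n hn, (s3 n hn z d).resolve_right nd⟩ _
      ⟨h2.1, h2.2.1, (cov z d).resolve_right nd⟩ (cg_le l2 hn) l2)
  obtain ⟨U, hU, k⟩ := dy
  have u2 : U2 ≠ U := fun e => nY (m y w wy.symm U hU _ ⟨cY, ⟨U, hU, k⟩, dY⟩ _
    ⟨h2.1, h2.2.2, dw⟩ k (e ▸ k2))
  refine moves h two xy.symm hU2 z2 k2 h2.2.1 fun u hu => (s6 _ ?_ fun d => s5 ?_).symm
  · have := h1.2.1.cj h u
    rwa [cen h hU2 hU1 u12.symm k1 hu] at this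
  · have := d.cj h u⁻¹
    rwa [cen h hU2 hU u2 k (U2.inv_mem hu), inv_smul_smul] at this

theorem matching [Finite G] [FaithfulSMul G Ω] (two : Two G Ω) (h : CF C) (a : ℕ)
    (max : ∀ x y, x ≠ y → ∀ T ∈ C x, ∀ U ∈ C y, Nat.card (T ⊓ U : Subgroup G) ≤ a) (a1 : 1 < a)
    (mat : ∀ x y, x ≠ y → ∀ T ∈ C x, ∀ U ∈ C y, ∀ U1 ∈ C y, Nat.card (T ⊓ U : Subgroup G) = a →
      Nat.card (T ⊓ U1 : Subgroup G) = a → T ⊓ U = T ⊓ U1)
    {x y : Ω} (xy : x ≠ y) {T T1 U U1 : Subgroup G} (hT : T ∈ C x) (hT1 : T1 ∈ C x)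
    (hU : U ∈ C y) (hU1 : U1 ∈ C y) (c : Nat.card (T ⊓ U : Subgroup G) = a)
    (c1 : Nat.card (T1 ⊓ U1 : Subgroup G) = a) : T ⊓ U = T1 ⊓ U1 := by
  by_contra ne
  refine two_case h two a1 ?_ xy ⟨c, ⟨T, hT, inf_le_left⟩, ⟨U, hU, inf_le_right⟩⟩
    ⟨c1, ⟨T1, hT1, inf_le_left⟩, ⟨U1, hU1, inf_le_right⟩⟩ ne
  rintro x y xy T hT Z ⟨c, -, U, hU, k⟩ Z' ⟨c', -, U', hU', k'⟩ l l'
  have e : Z = T ⊓ U := eq_of_le_of_card_ge (le_inf l k) (c ▸ max x y xy T hT U hU)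
  have e' : Z' = T ⊓ U' := eq_of_le_of_card_ge (le_inf l' k') (c' ▸ max x y xy T hT U' hU')
  rw [e, e']
  exact mat x y xy T hT U hU U' hU' (e ▸ c) (e' ▸ c')

end CfsgOL
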