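import Cfsg.Agent.H1.Q4Def
import Cfsg.Agent.SZ.Pts_a

set_option autoImplicit false
set_option linter.unusedSectionVars false

/-! S3404, case B (complement of even order): set-up. -/

namespace CfsgL.Q4B

open CfsgH1.Q4 Subgroup

variable {G Ω : Type*} [Group G] [Finite G] [MulAction G Ω] [Finite Ω]

/-! ### counting -/

theorem ncard_modEq {α : Type*} [Finite α] {p : ℕ} (hp : p.Prime) (S : Set α) (f : α → α)
    (hS : ∀ x ∈ S, f x ∈ S) (hf : ∀ x ∈ S, f^[p] x = x) :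
    S.ncard ≡ {x | x ∈ S ∧ f x = x}.ncard [MOD p] := by
  classical
  have := Fact.mk hp
  have := Fintype.ofFinite α
  let e : Function.End S := fun x => ⟨f x, hS _ x.2⟩
  have he : ∀ n (x : S), ((e ^ n) x : α) = f^[n] x := fun n => by
    induction n with
    | zero => intro x; rfl
    | succ n ih => intro x; rw [pow_succ, Function.iterate_succ_apply]; exact ih (e x)
  have h := Equiv.Perm.card_fixedPoints_modEq (f := e) (p := p) (n := 1)
    (funext fun x => Subtype.ext (by rw [pow_one, he, hf _ x.2]; rfl))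
  rw [← Nat.card_eq_fintype_card, ← Nat.card_eq_fintype_card, Nat.card_coe_set_eq,
    Nat.card_coe_set_eq] at h
  convert h using 1
  rw [← Set.ncard_image_of_injective _ Subtype.val_injective]
  congr 1
  ext x
  constructor
  · rintro ⟨h1, h2⟩; exact ⟨⟨x, h1⟩, Subtype.ext h2, rfl⟩
  · rintro ⟨y, h1, rfl⟩; exact ⟨y.2, congrArg Subtype.val h1⟩

theorem ncard_mod {p : ℕ} (hp : p.Prime) {g : G} (hg : g ^ p = 1) {S : Set Ω}
    (hS : ∀ x ∈ S, g • x ∈ S) : S.ncard ≡ (S ∩ Fx Ω g).ncard [MOD p] :=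
  ncard_modEq hp S (g • ·) hS fun x _ => by rw [smul_iterate, hg]; exact one_smul G x

theorem ncard_mod2 {g : G} (hg : g * g = 1) {S : Set Ω} (hS : ∀ x ∈ S, g • x ∈ S) :
    S.ncard % 2 = (S ∩ Fx Ω g).ncard % 2 :=
  ncard_mod Nat.prime_two (by rw [sq, hg]) hS

theorem exists_not_mem_of_lt {S T : Set Ω} (h : T.ncard < S.ncard) : ∃ x ∈ S, x ∉ T := by
  by_contra e
  push Not at e
  exact absurd (Set.ncard_le_ncard e) (by omega)

theorem ncard3 {a b c : Ω} (h1 : a ≠ b) (h2 : a ≠ c) (h3 : b ≠ c) : ({a, b, c} : Set Ω).ncard = 3 :=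
  Set.ncard_eq_three.2 ⟨a, b, c, h1, h2, h3, rfl⟩

/-- a set with at most three and an even number of points that contains `a ≠ b`. -/
theorem eq_of_even {S : Set Ω} (h3 : S.ncard ≤ 3) (he : S.ncard % 2 = 0) {a b c : Ω} (hab : a ≠ b)
    (ha : a ∈ S) (hb : b ∈ S) (hc : c ∈ S) : c = a ∨ c = b := by
  by_contra e
  push Not at e
  have := Set.ncard_le_ncard (s := {a, b, c}) (t := S) (by rintro x (rfl | rfl | rfl) <;> assumption)
  rw [ncard3 hab e.1.symm e.2.symm] at this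
  omega

theorem eq_of_three {S : Set Ω} (h3 : S.ncard ≤ 3) {a b c d : Ω} (hab : a ≠ b) (hac : a ≠ c)
    (hbc : b ≠ c) (ha : a ∈ S) (hb : b ∈ S) (hc : c ∈ S) (hd : d ∈ S) : d = a ∨ d = b ∨ d = c := by
  by_contra e
  push Not at e
  have := D4.le_ncard ⟨hab, hac, e.1.symm, hbc, e.2.1.symm, e.2.2.symm⟩ ha hb hc hd
  omega

/-- a set with at most three and an odd number of points that contains `a ≠ b`. -/
theorem exists_third {S : Set Ω} (ho : S.ncard % 2 = 1) {a b : Ω} (hab : a ≠ b)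
    (ha : a ∈ S) (hb : b ∈ S) : ∃ e ∈ S, e ≠ a ∧ e ≠ b := by
  have := Set.ncard_le_ncard (s := {a, b}) (t := S) (by rintro x (rfl | rfl) <;> assumption)
  rw [Set.ncard_pair hab] at this
  obtain ⟨e, h1, h2⟩ := exists_not_mem_of_lt (S := S) (T := {a, b}) (by rw [Set.ncard_pair hab]; omega)
  exact ⟨e, h1, by simpa using h2⟩

theorem smul_ne {g : G} {a b : Ω} (h : a ≠ b) : g • a ≠ g • b := fun e => h (MulAction.injective g e)

theorem swap_back {g : G} (hg : g * g = 1) {a b : Ω} (h : g • a = b) : g • b = a := by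
  rw [← h, ← mul_smul, hg, one_smul]

theorem D4.smul {a b c d : Ω} (h : D4 a b c d) (g : G) : D4 (g • a) (g • b) (g • c) (g • d) :=
  ⟨smul_ne h.1, smul_ne h.2.1, smul_ne h.2.2.1, smul_ne h.2.2.2.1, smul_ne h.2.2.2.2.1,
    smul_ne h.2.2.2.2.2⟩

theorem conj_smul {g h : G} {a b : Ω} (e : h • a = b) : (g * h * g⁻¹) • g • a = g • b := by
  rw [mul_smul, inv_smul_smul, mul_smul, e]

theorem fix_of_inv {g k : G} (h : g * k * g⁻¹ = k⁻¹) {x : Ω} (hx : k • x = x) : k • g • x = g • x := by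
  have := conj_smul (g := g) hx
  rwa [h, inv_smul_eq_iff, eq_comm] at this

theorem fix_of_comm {g k : G} (h : Commute g k) {x : Ω} (hx : k • x = x) : k • g • x = g • x :=
  smul_mem_Fx h hx

/-! ### involutions fixing four points -/

/-- involution -/
structure Iv (t : G) : Prop where
  sq : t * t = 1
  ne : t ≠ 1

variable (Ω) in
/-- `t`-type involution -/
structure TT (t : G) : Prop extends Iv t where
  four : 4 ≤ (Fx Ω t).ncard

theorem Iv.inv {t : G} (h : Iv t) : t⁻¹ = t := inv_eq_of_mul_eq_one_right h.sq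
theorem Iv.conj {t : G} (h : Iv t) (g : G) : Iv (g * t * g⁻¹) :=
  ⟨CfsgSZ.pt_sq_conj h.sq g, CfsgFT.conj_ne_one h.ne⟩
theorem Iv.mul {t s : G} (h : Iv t) (h' : Iv s) (c : Commute t s) (hn : t ≠ s) : Iv (t * s) :=
  ⟨by rw [mul_assoc, ← mul_assoc s, ← c.eq, mul_assoc, h'.sq, mul_one, h.sq],
    fun e => hn (by rw [eq_inv_of_mul_eq_one_left e, h'.inv])⟩
theorem Iv.orderOf {t : G} (h : Iv t) : orderOf t = 2 := orderOf_eq_prime (by rw [pow_two, h.sq]) h.ne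
theorem iv_of_orderOf {t : G} (h : orderOf t = 2) : Iv t :=
  ⟨by rw [← pow_two, ← h, pow_orderOf_eq_one], by rintro rfl; simp at h⟩
theorem TT.conj {t : G} (h : TT Ω t) (g : G) : TT Ω (g * t * g⁻¹) :=
  ⟨h.toIv.conj g, by rw [ncard_Fx_conj]; exact h.four⟩
theorem Iv.tt {t : G} (h : Iv t) {B : Set Ω} (hB : B.ncard = 4) (h1 : t ∈ St G B) : TT Ω t :=
  ⟨h, hB ▸ Set.ncard_le_ncard h1⟩

/-- case B -/
structure BB (G Ω : Type*) [Group G] [MulAction G Ω] extends Fr G Ω where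
  odd : Odd κ
  ex : ∃ t : G, TT Ω t

namespace BB

variable (F : BB G Ω) {B B' : Set Ω} {g h k t s τ : G} {a b c d x y : Ω}
include F

theorem odd_ord (hk : k ^ F.κ = 1) : Odd (orderOf k) := F.odd.of_dvd_nat (orderOf_dvd_of_pow_eq_one hk)
theorem eq_one (hk : k ^ F.κ = 1) (h : k * k = 1) : k = 1 := CfsgSZ.pt_eq_one (F.odd_ord hk) h
theorem eq_one' (hk : k ^ F.κ = 1) (h : k = k⁻¹) : k = 1 :=
  F.eq_one hk (by nth_rewrite 2 [h]; exact mul_inv_cancel k)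
theorem fix_of_sq (hk : k ^ F.κ = 1) (h : k • k • x = x) : k • x = x :=
  CfsgSZ.pt_mem_of_sq (X := MulAction.stabilizer G x) (F.odd_ord hk) (by
    rwa [MulAction.mem_stabilizer_iff, mul_smul])
theorem notK (hB : B.ncard = 4) (ht : Iv t) : t ∉ F.K B := fun e => ht.ne (F.eq_one (F.pow hB e) ht.sq)

theorem exists_K (hB : B.ncard = 4) : ∃ k ∈ F.K B, k ≠ 1 := by
  refine (bot_or_exists_ne_one _).resolve_left fun e => ?_
  have := F.card hB
  have := F.one_lt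
  rw [e, card_bot] at *
  omega

/-- the map `k ↦ k (h k h⁻¹)⁻¹` is onto `K`. -/
theorem exists_comm (hn : ∀ k ∈ F.K B, h * k * h⁻¹ ∈ F.K B)
    (hf : ∀ k ∈ F.K B, Commute h k → k = 1) (hk : k ∈ F.K B) :
    ∃ u ∈ F.K B, u * (h * u * h⁻¹)⁻¹ = k := by
  let f : F.K B → F.K B := fun u => ⟨u * (h * u * h⁻¹)⁻¹, mul_mem u.2 (inv_mem (hn _ u.2))⟩
  have : Function.Injective f := fun u v e => by
    have e1 : (u : G) * (h * u * h⁻¹)⁻¹ = v * (h * v * h⁻¹)⁻¹ := congrArg Subtype.val e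
    have := hf _ (mul_mem (inv_mem v.2) u.2) (by
      show h * ((v : G)⁻¹ * u) = (v : G)⁻¹ * u * h
      calc _ = (h * v * h⁻¹)⁻¹ * (h * u * h⁻¹) * h := by group
        _ = (v : G)⁻¹ * (v * (h * v * h⁻¹)⁻¹) * (h * u * h⁻¹) * h := by group
        _ = _ := by rw [← e1]; group)
    exact Subtype.ext (inv_mul_eq_one.1 this).symm
  obtain ⟨u, e⟩ := Finite.injective_iff_surjective.1 this ⟨k, hk⟩
  exact ⟨u, u.2, congrArg Subtype.val e⟩

theorem inv_of_fpf (h2 : h * h = 1) (hn : ∀ k ∈ F.K B, h * k * h⁻¹ ∈ F.K B)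
    (hf : ∀ k ∈ F.K B, Commute h k → k = 1) (hk : k ∈ F.K B) : h * k * h⁻¹ = k⁻¹ := by
  obtain ⟨u, -, rfl⟩ := F.exists_comm hn hf hk
  calc _ = h * u * h⁻¹ * ((h * h) * u⁻¹ * (h * h)⁻¹) := by group
    _ = _ := by rw [h2]; group

/-- an involution of `H_B` inverts `K_B`. -/
theorem inv (hB : B.ncard = 4) (ht : Iv t) (h1 : t ∈ St G B) (hk : k ∈ F.K B) : t * k * t⁻¹ = k⁻¹ :=
  F.inv_of_fpf ht.sq (fun _ e => F.conj_mem_St hB h1 e)
    (fun _ e c => F.fpf hB h1 (F.notK hB ht) e c) hk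

theorem exists_conj (hB : B.ncard = 4) (hB' : B'.ncard = 4) : ∃ g : G, (g • ·) '' B = B' := by
  obtain ⟨a, b, c, d, h1, rfl⟩ := exists_D4 hB
  obtain ⟨a', b', c', d', h2, rfl⟩ := exists_D4 hB'
  obtain ⟨g, -, e1, e2, e3, e4⟩ := F.tr h1 h2 trivial trivial trivial trivial trivial trivial trivial
    trivial
  exact ⟨g, by simp [Set.image_insert_eq, e1, e2, e3, e4]⟩

theorem tr4 {a' b' c' d' : Ω} (h1 : D4 a b c d) (h2 : D4 a' b' c' d') :
    ∃ g : G, g • a = a' ∧ g • b = b' ∧ g • c = c' ∧ g • d = d' :=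
  let ⟨g, _, e⟩ := F.tr h1 h2 trivial trivial trivial trivial trivial trivial trivial trivial
  ⟨g, e⟩

theorem exists_iv (hB : B.ncard = 4) : ∃ t, Iv t ∧ t ∈ St G B := by
  obtain ⟨t, ht⟩ := F.ex
  obtain ⟨B0, h1, h2⟩ := exists_four ht.four
  obtain ⟨g, rfl⟩ := F.exists_conj h2 hB
  exact ⟨_, ht.toIv.conj g, conj_mem_St.2 h1⟩

theorem comm (hB : B.ncard = 4) (hk : k ∈ F.K B) (hg : g ∈ F.K B) : Commute k g := by
  obtain ⟨t, ht, h1⟩ := F.exists_iv hB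
  have e := F.inv hB ht h1 (mul_mem hk hg)
  have e' : t * (k * g) * t⁻¹ = (t * k * t⁻¹) * (t * g * t⁻¹) := by group
  rw [e', F.inv hB ht h1 hk, F.inv hB ht h1 hg, ← mul_inv_rev, inv_inj] at e
  exact e.symm

/-- the product of two involutions of `H_B` lies in `K_B`. -/
theorem mul_mem_K (hB : B.ncard = 4) (ht : Iv t) (h1 : t ∈ St G B) (hs : Iv s) (h2 : s ∈ St G B) :
    t * s ∈ F.K B := by
  obtain ⟨k, hk, k1⟩ := F.exists_K hB
  refine F.cen hB hk k1 (mul_mem h1 h2) (mul_inv_eq_iff_eq_mul.1 ?_)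
  calc t * s * k * (t * s)⁻¹ = t * (s * k * s⁻¹) * t⁻¹ := by group
    _ = k := by rw [F.inv hB hs h2 hk, F.inv hB ht h1 (inv_mem hk), inv_inv]

theorem iv_mul (hB : B.ncard = 4) (ht : Iv t) (h1 : t ∈ St G B) (hk : k ∈ F.K B) : Iv (t * k) :=
  ⟨CfsgSZ.pt_sq_of_inv ht.sq (F.inv hB ht h1 hk), fun e => F.notK hB ht (by
    rw [eq_inv_of_mul_eq_one_left e]; exact inv_mem hk)⟩

/-- no four-group fixes four points. -/
theorem eq_of_comm (hB : B.ncard = 4) (ht : Iv t) (h1 : t ∈ St G B) (hs : Iv s) (h2 : s ∈ St G B)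
    (c : Commute t s) : t = s := by
  by_contra e
  exact F.notK hB (ht.mul hs c e) (F.mul_mem_K hB ht h1 hs h2)

theorem ncard_le_of_comm (ht : Iv t) (hs : Iv s) (c : Commute t s) (hn : t ≠ s) :
    (Fx Ω t ∩ Fx Ω s).ncard ≤ 3 := by
  by_contra e
  obtain ⟨B, h1, h2⟩ := exists_four (F := Fx Ω t ∩ Fx Ω s) (by omega)
  exact hn (F.eq_of_comm h2 ht (fun _ e => (h1 e).1) hs (fun _ e => (h1 e).2) c)

theorem conj_K (hB : B.ncard = 4) (ht : Iv t) (h1 : t ∈ St G B) (hs : Iv s) (h2 : s ∈ St G B) :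
    ∃ k ∈ F.K B, k * t * k⁻¹ = s := by
  have m := F.mul_mem_K hB ht h1 hs h2
  obtain ⟨c, hc, e⟩ := CfsgSZ.pt_conj_of_inv (CfsgSZ.pt_inv_mul ht.sq hs.sq) (F.odd_ord (F.pow hB m))
  exact ⟨c, zpowers_le.2 m hc, by rw [← e, ← mul_assoc, ht.sq, one_mul]⟩

theorem TT_conj (ht : TT Ω t) (hs : TT Ω s) : ∃ g : G, g * t * g⁻¹ = s := by
  obtain ⟨B, h1, h2⟩ := exists_four ht.four
  obtain ⟨B', h3, h4⟩ := exists_four hs.four
  obtain ⟨g, rfl⟩ := F.exists_conj h2 h4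
  obtain ⟨k, -, e⟩ := F.conj_K h4 (ht.toIv.conj g) (conj_mem_St.2 h1) hs.toIv h3
  exact ⟨k * g, by rw [← e]; group⟩

theorem ncard_TT (ht : TT Ω t) (hs : TT Ω s) : (Fx Ω t).ncard = (Fx Ω s).ncard := by
  obtain ⟨g, rfl⟩ := F.TT_conj ht hs
  rw [ncard_Fx_conj]

/-- Witt: `C(t)` is four-fold transitive on the fixed points of `t`. -/
theorem witt (ht : Iv t) : T4 (centralizer {t}) (Fx Ω t) := by
  intro a b c d a' b' c' d' h1 h2 ha hb hc hd ha' hb' hc' hd'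
  obtain ⟨g, rfl, rfl, rfl, rfl⟩ := F.tr4 h1 h2
  obtain ⟨k, hk, e⟩ := F.conj_K h2.ncard (ht.conj g)
    (mem_St4.2 ⟨conj_smul ha, conj_smul hb, conj_smul hc, conj_smul hd⟩) ht
    (mem_St4.2 ⟨ha', hb', hc', hd'⟩)
  obtain ⟨k1, k2, k3, k4⟩ := mem_St4.1 (F.le_St h2.ncard hk)
  refine ⟨k * g, mem_centralizer_singleton_iff.2 ?_, by rw [mul_smul, k1], by rw [mul_smul, k2],
    by rw [mul_smul, k3], by rw [mul_smul, k4]⟩
  nth_rewrite 2 [← e]
  group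

/-- an element of kernel type commuting with an involution has at most three common fixed points. -/
theorem ncard_le_of_K (ht : Iv t) (hk : k ^ F.κ = 1) (k1 : k ≠ 1) (c : Commute t k) :
    (Fx Ω t ∩ Fx Ω k).ncard ≤ 3 := by
  by_contra e
  obtain ⟨B, h1, h2⟩ := exists_four (F := Fx Ω t ∩ Fx Ω k) (by omega)
  exact k1 (F.fpf h2 (fun _ e => (h1 e).1) (F.notK h2 ht) ((F.mem h2).2 ⟨fun _ e => (h1 e).2, hk⟩) c)

theorem memK4 (h : D4 a b c d) :
    k ∈ F.K {a, b, c, d} ↔ (k • a = a ∧ k • b = b ∧ k • c = c ∧ k • d = d) ∧ k ^ F.κ = 1 := by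
  rw [F.mem h.ncard, mem_St4]

/-- an element of `H_B` outside `K_B` centralises exactly one involution of `H_B`. -/
theorem exists_iv_comm (hB : B.ncard = 4) (h1 : h ∈ St G B) (h2 : h ∉ F.K B) :
    ∃ t, Iv t ∧ t ∈ St G B ∧ Commute t h := by
  obtain ⟨t, ht, t1⟩ := F.exists_iv hB
  have m := F.mul_mem_K hB ht t1 (ht.conj h) (mul_mem (mul_mem h1 t1) (inv_mem h1))
  obtain ⟨u, hu, e⟩ := F.exists_comm (fun _ e => F.conj_mem_St hB h1 e)
    (fun _ e c => F.fpf hB h1 h2 e c) m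
  refine ⟨t * u, F.iv_mul hB ht t1 hu, mul_mem t1 (F.le_St hB hu), (mul_inv_eq_iff_eq_mul.1 ?_).symm⟩
  calc h * (t * u) * h⁻¹ = (t * t)⁻¹ * t * (t * (h * t * h⁻¹)) * (h * u * h⁻¹) := by group
    _ = t * u := by rw [← e, ht.sq]; group

theorem iv_comm_uniq (hB : B.ncard = 4) (h1 : h ∈ St G B) (h2 : h ∉ F.K B) (ht : Iv t)
    (t1 : t ∈ St G B) (tc : Commute t h) (hs : Iv s) (s1 : s ∈ St G B) (sc : Commute s h) : t = s := by
  have := F.fpf hB h1 h2 (F.mul_mem_K hB ht t1 hs s1) (tc.mul_left sc).symm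
  rw [eq_inv_of_mul_eq_one_left this, hs.inv]

/-- an involution stabilising `B` commutes with an involution of `H_B`. -/
theorem exists_iv_of_stab (hB : B.ncard = 4) (h2 : τ * τ = 1) (hn : ∀ x ∈ B, τ • x ∈ B) :
    ∃ t, Iv t ∧ t ∈ St G B ∧ Commute t τ := by
  obtain ⟨t, ht, t1⟩ := F.exists_iv hB
  have s1 : τ * t * τ⁻¹ ∈ St G B := fun x hx => by
    have := conj_smul (g := τ) (t1 _ (hn x hx))
    rwa [← mul_smul τ τ x, h2, one_smul] at this
  have m := F.mul_mem_K hB ht t1 (ht.conj τ) s1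
  obtain ⟨c, hc, e⟩ := CfsgSZ.pt_sqrt (F.odd_ord (F.pow hB m))
  have c1 : c ∈ F.K B := zpowers_le.2 m hc
  have i1 : τ * (t * (τ * t * τ⁻¹)) * τ⁻¹ = (t * (τ * t * τ⁻¹))⁻¹ := by
    rw [mul_inv_rev, (ht.conj τ).inv, ht.inv]
    calc _ = τ * t * τ⁻¹ * ((τ * τ) * t * (τ * τ)⁻¹) := by group
      _ = τ * t * τ⁻¹ * t := by rw [h2]; group
  refine ⟨t * c, F.iv_mul hB ht t1 c1, mul_mem t1 (F.le_St hB c1), (mul_inv_eq_iff_eq_mul.1 ?_).symm⟩
  calc τ * (t * c) * τ⁻¹ = (t * t)⁻¹ * t * (t * (τ * t * τ⁻¹)) * (τ * c * τ⁻¹) := by group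
    _ = t * c := by rw [CfsgSZ.pt_inv_zp i1 hc, ← e, ht.sq]; group

end BB

/-! ### configurations -/

/-- a configuration `(τ; x y; a b)`. -/
structure Cf (τ : G) (x y a b : Ω) : Prop extends TT Ω τ where
  d4 : D4 a b x y
  sw : τ • x = y
  fa : τ • a = a
  fb : τ • b = b

/-- `j ∈ I_{ab}`: an involution fixing `a b x y` and commuting with `τ`. -/
structure In (τ : G) (x y a b : Ω) (j : G) : Prop extends Iv j where
  fa : j • a = a
  fb : j • b = b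
  fx : j • x = x
  fy : j • y = y
  cm : Commute j τ

/-- `r ∈ R = C_K(τ)`, `K = K_{abxy}`. -/
structure BB.Rm (F : BB G Ω) (τ : G) (x y a b : Ω) (r : G) : Prop where
  mem : r ∈ F.K {a, b, x, y}
  cm : Commute r τ

section
variable {τ j j' r g : G} {x y a b : Ω}

theorem Cf.sw' (h : Cf τ x y a b) : τ • y = x := swap_back h.sq h.sw
theorem Cf.stab (h : Cf τ x y a b) : ∀ z ∈ ({a, b, x, y} : Set Ω), τ • z ∈ ({a, b, x, y} : Set Ω) := by
  rintro z (rfl | rfl | rfl | rfl) <;> simp [h.fa, h.fb, h.sw, h.sw']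
theorem Cf.img (h : Cf τ x y a b) : (τ • ·) '' ({a, b, x, y} : Set Ω) = {a, b, x, y} := by
  simp [Set.image_insert_eq, h.fa, h.fb, h.sw, h.sw', Set.pair_comm]
theorem Cf.xy (h : Cf τ x y a b) : x ≠ y := h.d4.2.2.2.2.2
theorem Cf.ab (h : Cf τ x y a b) : a ≠ b := h.d4.1
theorem TT.cf (h : TT Ω τ) (h1 : τ • x = y) (h2 : x ≠ y) (ha : τ • a = a) (hb : τ • b = b)
    (hab : a ≠ b) : Cf τ x y a b := by
  have e := swap_back h.sq h1
  refine ⟨h, ⟨hab, ?_, ?_, ?_, ?_, h2⟩, h1, ha, hb⟩ <;> rintro rfl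
  exacts [h2 (ha.symm.trans h1), h2 (e.symm.trans ha), h2 (hb.symm.trans h1), h2 (e.symm.trans hb)]
theorem Cf.other (h : Cf τ x y a b) {c d : Ω} (hc : τ • c = c) (hd : τ • d = d) (hcd : c ≠ d) :
    Cf τ x y c d := h.toTT.cf h.sw h.xy hc hd hcd
theorem Cf.conj (h : Cf τ x y a b) (g : G) : Cf (g * τ * g⁻¹) (g • x) (g • y) (g • a) (g • b) :=
  ⟨h.toTT.conj g, D4.smul h.d4 g, conj_smul h.sw, conj_smul h.fa, conj_smul h.fb⟩
theorem In.mem (h : In τ x y a b j) : j ∈ St G ({a, b, x, y} : Set Ω) :=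
  mem_St4.2 ⟨h.fa, h.fb, h.fx, h.fy⟩
theorem In.symm (h : In τ x y a b j) : In τ x y b a j := ⟨h.toIv, h.fb, h.fa, h.fx, h.fy, h.cm⟩
theorem In.tt (h : In τ x y a b j) (C : Cf τ x y a b) : TT Ω j := h.toIv.tt C.d4.ncard h.mem
theorem In.ne_τ (h : In τ x y a b j) (C : Cf τ x y a b) : j ≠ τ := by
  rintro rfl; exact C.xy (h.fx.symm.trans C.sw)
theorem In.smul (h : In τ x y a b j) {p : Ω} (hp : τ • p = p) : τ • j • p = j • p := fix_of_comm h.cm hp
theorem In.other (h : In τ x y a b j) {c d : Ω} (hc : j • c = c) (hd : j • d = d) : In τ x y c d j :=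
  ⟨h.toIv, hc, hd, h.fx, h.fy, h.cm⟩

namespace BB

variable (F : BB G Ω)
include F

theorem exists_In (C : Cf τ x y a b) : ∃ j, In τ x y a b j := by
  obtain ⟨t, h1, h2, h3⟩ := F.exists_iv_of_stab C.d4.ncard C.sq C.stab
  obtain ⟨e1, e2, e3, e4⟩ := mem_St4.1 h2
  exact ⟨t, h1, e1, e2, e3, e4, h3⟩

theorem In_le (C : Cf τ x y a b) (h : In τ x y a b j) : (Fx Ω τ ∩ Fx Ω j).ncard ≤ 3 :=
  F.ncard_le_of_comm C.toIv h.toIv h.cm.symm (h.ne_τ C).symm

theorem In_mul (C : Cf τ x y a b) (h : In τ x y a b j) (h' : In τ x y a b j') :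
    F.Rm τ x y a b (j * j') :=
  ⟨F.mul_mem_K C.d4.ncard h.toIv h.mem h'.toIv h'.mem, h.cm.mul_left h'.cm⟩

theorem In_mul_R (C : Cf τ x y a b) (h : In τ x y a b j) (hr : F.Rm τ x y a b r) :
    In τ x y a b (j * r) := by
  obtain ⟨⟨e1, e2, e3, e4⟩, -⟩ := (F.memK4 C.d4).1 hr.mem
  exact ⟨F.iv_mul C.d4.ncard h.toIv h.mem hr.mem, by rw [mul_smul, e1, h.fa], by rw [mul_smul, e2, h.fb],
    by rw [mul_smul, e3, h.fx], by rw [mul_smul, e4, h.fy], h.cm.mul_left hr.cm⟩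

theorem In_inv (C : Cf τ x y a b) (h : In τ x y a b j) (hr : r ∈ F.K {a, b, x, y}) :
    j * r * j⁻¹ = r⁻¹ := F.inv C.d4.ncard h.toIv h.mem hr

theorem exists_Cf : ∃ (τ : G) (x y a b : Ω), Cf τ x y a b := by
  obtain ⟨t, ht⟩ := F.ex
  obtain ⟨x, hx⟩ : ∃ x : Ω, t • x ≠ x := by
    by_contra e
    push Not at e
    exact ht.ne (F.faith t e)
  obtain ⟨a, ha, b, hb, c, -, d, -, h⟩ := exists_D4_mem ht.four
  exact ⟨t, x, _, a, b, ht.cf rfl hx.symm ha hb h.1⟩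

end BB

end

end CfsgL.Q4B
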