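import Cfsg.Agent.L.Q4B0

set_option autoImplicit false
set_option linter.unusedSectionVars false

/-! S3404, case B, type II: every configuration has `R = 1`. -/

namespace CfsgL.Q4B

open CfsgH1.Q4 Subgroup

variable {G Ω : Type*} [Group G] [Finite G] [MulAction G Ω] [Finite Ω]
variable {τ j j' r s g t w w' : G} {x y a b c e p q : Ω} {B : Set Ω}

theorem odd_Fx (hn : Odd (Nat.card Ω)) (ht : t * t = 1) : (Fx Ω t).ncard % 2 = 1 := by
  have := ncard_mod2 (S := (Set.univ : Set Ω)) ht fun _ _ => trivial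
  rw [Set.ncard_univ, Set.univ_inter] at this
  rw [← this]; exact Nat.odd_iff.1 hn

theorem In.third (h : In τ x y a b j) (hn : Odd (Nat.card Ω)) (C : Cf τ x y a b) :
    ∃ e, τ • e = e ∧ j • e = e ∧ e ≠ a ∧ e ≠ b := by
  have := ncard_mod2 (S := Fx Ω τ) h.sq fun _ hp => h.smul hp
  rw [odd_Fx hn C.sq] at this
  obtain ⟨e, he, h1⟩ := exists_third this.symm C.ab ⟨C.fa, h.fa⟩ ⟨C.fb, h.fb⟩
  exact ⟨e, he.1, he.2, h1⟩

/-- an element acting non-trivially with even order has a power acting as an involution. -/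
theorem exists_pow_iv {S : Set Ω} (h : ∀ m, Odd m → ∃ x ∈ S, g ^ m • x ≠ x) :
    ∃ n, (∃ x ∈ S, g ^ n • x ≠ x) ∧ ∀ x ∈ S, g ^ n • g ^ n • x = x := by
  obtain ⟨k, m, hm, e⟩ := Nat.exists_eq_two_pow_mul_odd (orderOf_pos g).ne'
  have H : ∀ k m, (∃ x ∈ S, g ^ m • x ≠ x) → g ^ (2 ^ k * m) = 1 →
      ∃ n, (∃ x ∈ S, g ^ n • x ≠ x) ∧ ∀ x ∈ S, g ^ n • g ^ n • x = x := fun k => by
    induction k with
    | zero => rintro m ⟨x, -, h1⟩ h2; rw [pow_zero, one_mul] at h2; simp [h2] at h1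
    | succ k ih =>
      intro m h1 h2
      by_cases h3 : ∀ x ∈ S, g ^ m • g ^ m • x = x
      · exact ⟨m, h1, h3⟩
      · push Not at h3
        refine ih (2 * m) (by simpa only [two_mul, pow_add, mul_smul] using h3) ?_
        rw [← h2]; congr 1; ring
  exact H k m (h m hm) (e ▸ pow_orderOf_eq_one g)

namespace BB

variable (F : BB G Ω)
include F

/-- no element of `C(τ)` fixing four points of `Φ` has a `3`-cycle. -/
theorem no_three (h3 : 3 ∣ F.κ) (ht : Iv τ) (hc : Commute τ g) (h4 : 4 ≤ (Fx Ω τ ∩ Fx Ω g).ncard)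
    (h : g • g • g • a = a) : g • a = a := by
  obtain ⟨B, h1, h2⟩ := exists_four h4
  by_cases hk : g ∈ F.K B
  · rw [F.fpf h2 (fun _ e => (h1 e).1) (F.notK h2 ht) hk hc, one_smul]
  · refine CfsgFT.mem_of_pow_mem_of_coprime' (X := MulAction.stabilizer G a)
      ((F.cop h2 (fun _ e => (h1 e).2) hk).coprime_dvd_right h3) ?_
    rw [MulAction.mem_stabilizer_iff, pow_three, mul_smul, mul_smul, h]

theorem not_nine (hH : HallThm G Ω) (h3 : 3 ∣ F.κ) (ht : Iv τ) : (Fx Ω τ).ncard ≠ 9 := fun h9 => by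
  have cm : ∀ g ∈ centralizer ({τ} : Set G), Commute g τ := fun g => mem_centralizer_singleton_iff.1
  have mp : ∀ g ∈ centralizer ({τ} : Set G), ∀ x ∈ Fx Ω τ, g • x ∈ Fx Ω τ :=
    fun g hg _ => smul_mem_Fx (cm g hg)
  by_cases H : ∀ g ∈ centralizer ({τ} : Set G), 4 ≤ (Fx Ω τ ∩ Fx Ω g).ncard →
      ∃ m, Odd m ∧ ∀ x ∈ Fx Ω τ, g ^ m • x = x
  · have := (hH _ _ mp (F.witt ht) (by omega) H).card
    omega
  push Not at H
  obtain ⟨g, hg, h4, H⟩ := H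
  obtain ⟨n, ⟨c, hc, h1⟩, h2⟩ := exists_pow_iv H
  replace h4 : 4 ≤ (Fx Ω τ ∩ Fx Ω (g ^ n)).ncard :=
    h4.trans (Set.ncard_le_ncard (Set.inter_subset_inter_right _ (Fx_le_pow g n)))
  replace hg := pow_mem hg n
  generalize g ^ n = u at *
  have h5 := ncard_modEq Nat.prime_two (Fx Ω τ) (u • ·) (mp u hg) h2
  replace h5 : 5 ≤ (Fx Ω τ ∩ Fx Ω u).ncard := by
    change _ ≡ (Fx Ω τ ∩ Fx Ω u).ncard [MOD 2] at h5
    unfold Nat.ModEq at h5; omega
  have hs : (Fx Ω τ \ Fx Ω u).ncard ≤ 4 := by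
    have := Set.ncard_inter_add_ncard_diff_eq_ncard (Fx Ω τ) (Fx Ω u)
    omega
  obtain ⟨a, ha, b, hb, hd, hab, hf⟩ : ∃ a ∈ Fx Ω τ, ∃ b ∈ Fx Ω τ, D4 a b c (u • c) ∧
      (u • a = a ∧ u • b = b ∨ u • a = b ∧ u • b = a) ∧
      ∀ z ∈ Fx Ω τ, z ∉ ({a, b, c, u • c} : Set Ω) → u • z = z := by
    by_cases h6 : ∀ z ∈ Fx Ω τ, z ∉ ({c, u • c} : Set Ω) → u • z = z
    · obtain ⟨a, ha, b, hb, -, -, -, -, hab, -⟩ := exists_D4_mem h4
      refine ⟨a, ha.1, b, hb.1, ⟨hab, ?_, ?_, ?_, ?_, h1.symm⟩, .inl ⟨ha.2, hb.2⟩,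
        fun z hz e => h6 z hz fun e' => e (by simp at e' ⊢; tauto)⟩ <;> rintro rfl
      exacts [h1 ha.2, h1 (MulAction.injective u ha.2), h1 hb.2, h1 (MulAction.injective u hb.2)]
    · push Not at h6
      obtain ⟨a, ha, h6, h7⟩ := h6
      simp only [Set.mem_insert_iff, Set.mem_singleton_iff, not_or] at h6
      have hd : D4 a (u • a) c (u • c) := ⟨h7.symm, h6.1, h6.2, fun e => h6.2 (by rw [← e, h2 a ha]),
        smul_ne h6.1, h1.symm⟩
      refine ⟨a, ha, _, mp u hg a ha, hd, .inr ⟨rfl, h2 a ha⟩, fun z hz e => by_contra fun e' => e ?_⟩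
      rw [Set.eq_of_subset_of_ncard_le (s := {a, u • a, c, u • c}) (t := Fx Ω τ \ Fx Ω u) _
        (hd.ncard ▸ hs)]
      · exact ⟨hz, e'⟩
      rintro _ (rfl | rfl | rfl | rfl)
      exacts [⟨ha, h7⟩, ⟨mp u hg _ ha, smul_ne h7⟩, ⟨hc, h1⟩, ⟨mp u hg _ hc, smul_ne h1⟩]
  obtain ⟨e, he, he'⟩ := exists_not_mem_of_lt (S := Fx Ω τ) (T := {a, b, c, u • c})
    (by rw [hd.ncard]; omega)
  have ue := hf e he he'
  simp only [Set.mem_insert_iff, Set.mem_singleton_iff, not_or] at he'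
  obtain ⟨v, hv, v1, v2, v3, v4⟩ := F.witt ht hd
    ⟨hd.1, hd.2.1, Ne.symm he'.1, hd.2.2.2.1, Ne.symm he'.2.1, Ne.symm he'.2.2.1⟩
    ha hb hc (mp u hg c hc) ha hb hc he
  have hf' : ∀ z ∈ Fx Ω τ, z ∉ ({a, b, c, e} : Set Ω) → (v * u * v⁻¹) • z = z := fun z hz e' => by
    have := conj_smul (g := v) (hf _ (mp _ (inv_mem hv) z hz) (by
      simpa only [Set.mem_insert_iff, Set.mem_singleton_iff, inv_smul_eq_iff, v1, v2, v3, v4] using e'))
    rwa [smul_inv_smul] at this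
  have k1 : (v * u * v⁻¹) • c = e := by have := conj_smul (g := v) (rfl : u • c = _); rwa [v3, v4] at this
  have k2 : (v * u * v⁻¹) • e = c := by have := conj_smul (g := v) (h2 c hc); rwa [v3, v4] at this
  have k3 : (v * u * v⁻¹) • u • c = u • c := hf' _ (mp u hg c hc) (by
    simp [hd.2.2.1.symm, hd.2.2.2.2.1.symm, h1, Ne.symm he'.2.2.2])
  have := F.no_three h3 ht (cm _ (mul_mem hg (mul_mem (mul_mem hv hg) (inv_mem hv)))).symm (a := c)
    (le_trans ?_ (Set.ncard_le_ncard (s := Fx Ω τ \ insert e {a, b, c, u • c}) fun z hz => ⟨hz.1, ?_⟩))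
    (by rw [mul_smul u _ c, k1, ue, mul_smul u _ e, k2, mul_smul u, k3, h2 c hc])
  · rw [mul_smul, k1, ue] at this
    exact he'.2.2.1 this
  · have := Set.le_ncard_sdiff (insert e {a, b, c, u • c}) (Fx Ω τ)
    have := Set.ncard_insert_le e ({a, b, c, u • c} : Set Ω)
    have := hd.ncard
    omega
  · have := hz.2
    simp only [Set.mem_insert_iff, Set.mem_singleton_iff, not_or] at this
    rw [mem_Fx, mul_smul, hf' z hz.1 (by simp [this]), hf z hz.1 (by simp [this])]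

theorem exists_In_comm (C : Cf τ x y p q) (h : In τ x y a b j) (hp : j • p = q) :
    ∃ w, In τ x y p q w ∧ Commute w j := by
  obtain ⟨t, ht⟩ := F.exists_In C
  have hq := swap_back h.sq hp
  have s1 : In τ x y p q (j * t * j⁻¹) := ⟨ht.toIv.conj j, by simpa only [hq] using conj_smul (g := j) ht.fb,
    by simpa only [hp] using conj_smul (g := j) ht.fa, by simpa only [h.fx] using conj_smul (g := j) ht.fx,
    by simpa only [h.fy] using conj_smul (g := j) ht.fy, (h.cm.mul_left ht.cm).mul_left h.cm.inv_left⟩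
  have m := F.In_mul C ht s1
  obtain ⟨c, hc, e⟩ := CfsgSZ.pt_sqrt (F.odd_ord (F.pow C.d4.ncard m.mem))
  have i1 : j * (t * (j * t * j⁻¹)) * j⁻¹ = (t * (j * t * j⁻¹))⁻¹ := by
    rw [mul_inv_rev, s1.inv, ht.inv]
    calc _ = j * t * j⁻¹ * ((j * j) * t * (j * j)⁻¹) := by group
      _ = j * t * j⁻¹ * t := by rw [h.sq]; group
  refine ⟨t * c, F.In_mul_R C ht ⟨zpowers_le.2 m.mem hc, mem_centralizer_singleton_iff.1
    (zpowers_le.2 (mem_centralizer_singleton_iff.2 m.cm) hc)⟩, (mul_inv_eq_iff_eq_mul.1 ?_).symm⟩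
  calc j * (t * c) * j⁻¹ = (t * t)⁻¹ * t * (t * (j * t * j⁻¹)) * (j * c * j⁻¹) := by group
    _ = t * c := by rw [CfsgSZ.pt_inv_zp i1 hc, ← e, ht.sq]; group

theorem In_fix (C : Cf τ x y a b) (h : In τ x y a b j) (h1 : τ • e = e) (h2 : j • e = e) (ha : e ≠ a)
    (hb : e ≠ b) (h3 : τ • p = p) (h4 : j • p = p) : p = a ∨ p = b ∨ p = e :=
  eq_of_three (F.In_le C h) C.ab ha.symm hb.symm ⟨C.fa, h.fa⟩ ⟨C.fb, h.fb⟩ ⟨h1, h2⟩ ⟨h3, h4⟩

theorem Rm_le (C : Cf τ x y a b) (h : F.Rm τ x y a b r) (h1 : r ≠ 1) : (Fx Ω τ ∩ Fx Ω r).ncard ≤ 3 :=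
  F.ncard_le_of_K C.toIv (F.pow C.d4.ncard h.mem) h1 h.cm.symm

theorem Rm_conj (C : Cf τ x y a b) (h : F.Rm τ x y a b r) (hc : Commute g τ)
    (hg : g ∈ St G ({a, b, x, y} : Set Ω)) : F.Rm τ x y a b (g * r * g⁻¹) :=
  ⟨F.conj_mem_St C.d4.ncard hg h.mem, (hc.mul_left h.cm).mul_left hc.inv_left⟩

end BB

/-- type II -/
def BB.II (F : BB G Ω) : Prop := ∀ (τ : G) (x y a b : Ω) (j r : G) (e : Ω), Cf τ x y a b →
  In τ x y a b j → F.Rm τ x y a b r → τ • e = e → j • e = e → r • e = e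

/-- the line `{a, b, e}` -/
structure BB.Ln (F : BB G Ω) (τ : G) (x y a b e : Ω) : Prop extends Cf τ x y a b where
  ii : F.II
  hn : Odd (Nat.card Ω)
  fe : τ • e = e
  ea : e ≠ a
  eb : e ≠ b
  fi : ∀ j, In τ x y a b j → j • e = e

theorem BB.II.line {F : BB G Ω} (H : F.II) (C : Cf τ x y a b) (h : In τ x y a b j) (h' : In τ x y a b j')
    (h1 : τ • e = e) (h2 : j • e = e) : j' • e = e := by
  have := H _ _ _ _ _ _ _ _ C h (F.In_mul C h h') h1 h2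
  rw [mul_smul] at this
  exact MulAction.injective j (this.trans h2.symm)

namespace BB.Ln

variable {F : BB G Ω} (L : F.Ln τ x y a b e)
include L

theorem fixI (h : In τ x y a b j) (h3 : τ • p = p) (h4 : j • p = p) : p ∈ ({a, b, e} : Set Ω) :=
  F.In_fix L.toCf h L.fe (L.fi j h) L.ea L.eb h3 h4

theorem fr (h : F.Rm τ x y a b r) : r • e = e :=
  let ⟨j, hj⟩ := F.exists_In L.toCf
  L.ii _ _ _ _ _ _ _ _ L.toCf hj h L.fe (L.fi j hj)

theorem Fx_R (h : F.Rm τ x y a b r) (h1 : r ≠ 1) : Fx Ω τ ∩ Fx Ω r = {a, b, e} := by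
  obtain ⟨⟨e1, e2, -⟩, -⟩ := (F.memK4 L.d4).1 h.mem
  refine (Set.eq_of_subset_of_ncard_le ?_ ?_).symm
  · rintro _ (rfl | rfl | rfl)
    exacts [⟨L.fa, e1⟩, ⟨L.fb, e2⟩, ⟨L.fe, L.fr h⟩]
  · rw [ncard3 L.ab L.ea.symm L.eb.symm]; exact F.Rm_le L.toCf h h1

theorem mid (hp : τ • p = p) (hl : p ∉ ({a, b, e} : Set Ω)) (h : In τ x y a b j) :
    ∃ c ∈ ({a, b, e} : Set Ω), ∃ w, In τ x y p c w ∧ w • j • p = j • p ∧ Commute w j := by
  have h1 : p ≠ j • p := fun e => hl (L.fixI h hp e.symm)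
  have C := L.other hp (h.smul hp) h1
  obtain ⟨w, hw, h2⟩ := F.exists_In_comm C h rfl
  obtain ⟨c, c1, c2, c3, c4⟩ := hw.third L.hn C
  refine ⟨c, L.fixI h c1 ?_, w, hw.other hw.fa c2, hw.fb, h2⟩
  rcases F.In_fix C hw c1 c2 c3 c4 (h.smul c1) (fix_of_comm h2.symm c2) with e | e | e
  exacts [absurd (swap_back h.sq e).symm c4, absurd (MulAction.injective j e) c3, e]

theorem mem_fix (h : In τ x y a b j) (hc : c ∈ ({a, b, e} : Set Ω)) : τ • c = c ∧ j • c = c := by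
  rcases hc with rfl | rfl | rfl
  exacts [⟨L.fa, h.fa⟩, ⟨L.fb, h.fb⟩, ⟨L.fe, L.fi j h⟩]

theorem inj (hp : τ • p = p) (hl : p ∉ ({a, b, e} : Set Ω)) (h : In τ x y a b j) (h' : In τ x y a b j')
    (hc : c ∈ ({a, b, e} : Set Ω)) (hw : In τ x y p c w) (w1 : w • j • p = j • p)
    (hw' : In τ x y p c w') (w2 : w' • j' • p = j' • p) : j = j' := by
  have C := L.other hp (L.mem_fix h hc).1 fun e => hl (e ▸ hc)
  have k : ∀ {j}, In τ x y a b j → j • p ≠ p ∧ j • p ≠ c := fun h =>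
    ⟨fun e => hl (L.fixI h hp e), fun e => C.ab (MulAction.injective _ (e.trans (L.mem_fix h hc).2.symm))⟩
  have e := ((F.In_fix C hw (h.smul hp) w1 (k h).1 (k h).2 (h'.smul hp)
    (L.ii.line C hw' hw (h'.smul hp) w2)).resolve_left (k h').1).resolve_left (k h').2
  by_contra n
  refine hl (L.Fx_R (F.In_mul L.toCf h h') (fun e => n ?_) ▸ ⟨hp, ?_⟩)
  · rw [eq_inv_of_mul_eq_one_left e, h'.inv]
  · rw [mem_Fx, mul_smul, e, ← mul_smul, h.sq, one_smul]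

theorem key (hp : τ • p = p) (hl : p ∉ ({a, b, e} : Set Ω)) : {j | In τ x y a b j}.ncard ≤ 3 ∧
    (3 ≤ {j | In τ x y a b j}.ncard → ∃ j w, In τ x y a b j ∧ In τ x y p a w ∧ Commute w j) := by
  have : Nonempty Ω := ⟨a⟩
  have := fun j (h : In τ x y a b j) => L.mid hp hl h
  simp only [← exists_prop] at this
  choose! f f1 v f2 f3 f4 using this
  have i : Set.InjOn f {j | In τ x y a b j} := fun j h j' h' e =>
    L.inj hp hl h h' (f1 j h) (f2 j h) (f3 j h) (e ▸ f2 j' h') (f3 j' h')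
  have s : f '' {j | In τ x y a b j} ⊆ {a, b, e} := by rintro _ ⟨j, h, rfl⟩; exact f1 j h
  have n3 := ncard3 L.ab L.ea.symm L.eb.symm
  refine ⟨i.ncard_image ▸ n3 ▸ Set.ncard_le_ncard s, fun h => ?_⟩
  obtain ⟨j, h1, h2⟩ := (Set.eq_of_subset_of_ncard_le s (by rwa [n3, i.ncard_image])).ge
    (Set.mem_insert a _)
  exact ⟨j, v j, h1, h2 ▸ f2 j h1, f4 j h1⟩

theorem exists_out : ∃ p, τ • p = p ∧ p ∉ ({a, b, e} : Set Ω) :=
  exists_not_mem_of_lt (S := Fx Ω τ) (by rw [ncard3 L.ab L.ea.symm L.eb.symm]; exact L.four)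

theorem swaps (hp : τ • p = p) (hl : p ∉ ({a, b, e} : Set Ω)) (h : In τ x y a b j) (hw : In τ x y p a w)
    (hc : Commute w j) : w • b = e := by
  rcases L.fixI h (hw.smul L.fb) (fix_of_comm hc h.fb) with e | e | e
  exacts [absurd (MulAction.injective w (hw.fb.trans e.symm)) L.ab,
    absurd (L.fixI (hw.other hw.fb e) hp hw.fa) hl, e]

variable (hr : F.Rm τ x y a b r) (r1 : r ≠ 1)
include hr r1

theorem rr : F.Rm τ x y a b (r * r) ∧ r * r ≠ 1 ∧ r ≠ r * r :=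
  ⟨⟨mul_mem hr.mem hr.mem, hr.cm.mul_left hr.cm⟩, fun e => r1 (F.eq_one (F.pow L.d4.ncard hr.mem) e),
    fun e => r1 (left_eq_mul.1 e)⟩

theorem three_le : 3 ≤ {j | In τ x y a b j}.ncard := by
  obtain ⟨j, h⟩ := F.exists_In L.toCf
  obtain ⟨h1, h2, h3⟩ := L.rr hr r1
  rw [← ncard3 (a := j) (b := j * r) (c := j * (r * r)) (by simpa) (by simpa) (by simpa)]
  refine Set.ncard_le_ncard ?_
  rintro _ (rfl | rfl | rfl)
  exacts [h, F.In_mul_R L.toCf h hr, F.In_mul_R L.toCf h h1]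

theorem R3 (hs : F.Rm τ x y a b s) : s = 1 ∨ s = r ∨ s = r * r := by
  obtain ⟨j, h⟩ := F.exists_In L.toCf
  obtain ⟨p, hp, hl⟩ := L.exists_out
  obtain ⟨h1, h2, h3⟩ := L.rr hr r1
  simpa using eq_of_three (L.key hp hl).1 (a := j) (b := j * r) (c := j * (r * r)) (d := j * s) (by simpa)
    (by simpa) (by simpa) h (F.In_mul_R L.toCf h hr) (F.In_mul_R L.toCf h h1) (F.In_mul_R L.toCf h hs)

theorem inv_eq : r * r = r⁻¹ := by
  rcases L.R3 hr r1 ⟨inv_mem hr.mem, hr.cm.inv_left⟩ with e | e | e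
  exacts [absurd (inv_eq_one.1 e) r1, absurd (F.eq_one' (F.pow L.d4.ncard hr.mem) e.symm) r1, e.symm]

theorem comm_or (h : In τ x y a b j) (hg : F.Rm τ x y a b (g * r * g⁻¹)) :
    Commute g r ∨ Commute (j * g) r := by
  rcases L.R3 hr r1 hg with e | e | e
  exacts [absurd e (CfsgFT.conj_ne_one r1), .inl (mul_inv_eq_iff_eq_mul.1 e),
    .inr (mul_inv_eq_iff_eq_mul.1 (by
      calc _ = j * (g * r * g⁻¹) * j⁻¹ := by group
        _ = r := by rw [e, L.inv_eq hr r1, F.In_inv L.toCf h (inv_mem hr.mem), inv_inv]))]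

theorem le_eleven : (Fx Ω τ).ncard ≤ 11 := by
  let W : G → Prop := fun w => Iv w ∧ Commute w τ ∧ w • a = a ∧ w • x = x ∧ w • y = y ∧ w • b = e
  have hW : ∀ p, τ • p = p → p ∉ ({a, b, e} : Set Ω) →
      ∃ j w, In τ x y a b j ∧ Commute w j ∧ w • p = p ∧ W w := fun p hp hl => by
    obtain ⟨j, w, h1, h2, h3⟩ := (L.key hp hl).2 (L.three_le hr r1)
    exact ⟨j, w, h1, h3, h2.fa, h2.toIv, h2.cm, h2.fb, h2.fx, h2.fy, L.swaps hp hl h1 h2 h3⟩
  obtain ⟨p, hp, hl⟩ := L.exists_out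
  obtain ⟨j, w, hj, wj, -, w1, w2, w3, w4, w5, w6⟩ := hW p hp hl
  obtain ⟨⟨r2, -, r4, r5⟩, r6⟩ := (F.memK4 L.d4).1 hr.mem
  have w7 := swap_back w1.sq w6
  obtain ⟨z, z1, z2, z3, z4, z5, z6, z7, z8⟩ : ∃ z : G, z * z = 1 ∧ Commute z τ ∧ z • a = a ∧ z • x = x ∧
      z • y = y ∧ z • e = b ∧ Commute z r ∧ Commute z j := by
    rcases L.comm_or hr r1 hj (g := w) ⟨(F.memK4 L.d4).2 ⟨⟨w3 ▸ conj_smul r2, w7 ▸ conj_smul (L.fr hr),
      w4 ▸ conj_smul r4, w5 ▸ conj_smul r5⟩, by rw [conj_pow, r6]; group⟩,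
      (w2.mul_left hr.cm).mul_left w2.inv_left⟩ with e | e
    · exact ⟨w, w1.sq, w2, w3, w4, w5, w7, e, wj⟩
    · refine ⟨j * w, ?_, hj.cm.mul_left w2, by rw [mul_smul, w3, hj.fa], by rw [mul_smul, w4, hj.fx],
        by rw [mul_smul, w5, hj.fy], by rw [mul_smul, w7, hj.fb], e, (Commute.refl j).mul_left wj⟩
      rw [mul_assoc, ← mul_assoc w, wj.eq, mul_assoc, w1.sq, mul_one, hj.sq]
  have hz : ∀ u, W u → u = z ∨ u = z * j ∨ u = z * j * r ∨ u = z * j * (r * r) := by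
    rintro u ⟨u1, u2, u3, u4, u5, u6⟩
    have m : z * u ∈ St G ({a, b, x, y} : Set Ω) := mem_St4.2 ⟨by rw [mul_smul, u3, z3],
      by rw [mul_smul, u6, z6], by rw [mul_smul, u4, z4], by rw [mul_smul, u5, z5]⟩
    rcases L.comm_or hr r1 hj (F.Rm_conj L.toCf hr (z2.mul_left u2) m) with e | e
    · have k := F.cen L.d4.ncard hr.mem r1 m e
      have c : Commute z (z * u) := by
        rcases L.R3 hr r1 ⟨k, z2.mul_left u2⟩ with e | e | e <;> rw [e]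
        exacts [Commute.one_right z, z7, z7.mul_right z7]
      have := F.eq_one (F.pow L.d4.ncard k) (by
        rw [← mul_assoc, ← c.eq, ← mul_assoc, z1, one_mul, u1.sq])
      exact .inl (by rw [eq_inv_of_mul_eq_one_right this, CfsgSZ.pt_inv z1])
    · have e' : u = z * j * (j * (z * u)) := by
        rw [mul_assoc, ← mul_assoc j, hj.sq, one_mul, ← mul_assoc, z1, one_mul]
      rcases L.R3 hr r1 ⟨F.cen L.d4.ncard hr.mem r1 (mul_mem hj.mem m) e,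
        hj.cm.mul_left (z2.mul_left u2)⟩ with e | e | e <;> rw [e] at e' <;> simp [e']
  let A : G → Set Ω := fun u => {p | W u ∧ p ∈ (Fx Ω τ ∩ Fx Ω u) \ {a}}
  have hA : ∀ u, (A u).ncard ≤ 2 := fun u => by
    by_cases h : W u
    · have h1 := F.ncard_le_of_comm h.1 L.toIv h.2.1 (by rintro rfl; exact L.xy (h.2.2.2.1.symm.trans L.sw))
      have h2 := Set.ncard_sdiff_singleton_of_mem (s := Fx Ω τ ∩ Fx Ω u) ⟨L.fa, h.2.2.1⟩
      have h3 := Set.ncard_le_ncard (s := A u) (t := (Fx Ω τ ∩ Fx Ω u) \ {a}) fun _ h => h.2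
      rw [Set.inter_comm] at h1
      omega
    · simp [A, h]
  have h1 := Set.ncard_le_ncard (s := Fx Ω τ)
    (t := {a, b, e} ∪ (A z ∪ (A (z * j) ∪ (A (z * j * r) ∪ A (z * j * (r * r)))))) fun p hp => by
      by_cases hl : p ∈ ({a, b, e} : Set Ω)
      · exact .inl hl
      obtain ⟨-, u, -, -, u1, u2⟩ := hW p hp hl
      have : p ∈ A u := ⟨u2, ⟨hp, u1⟩, fun e => hl (.inl e)⟩
      rcases hz u u2 with rfl | rfl | rfl | rfl
      exacts [.inr (.inl this), .inr (.inr (.inl this)), .inr (.inr (.inr (.inl this))),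
        .inr (.inr (.inr (.inr this)))]
  have h2 := fun s t : Set Ω => Set.ncard_union_le s t
  grw [h2, h2, h2, h2, hA, hA, hA, hA, ncard3 L.ab L.ea.symm L.eb.symm] at h1
  exact h1

end BB.Ln

theorem BB.caseII (F : BB G Ω) (hH : HallThm G Ω) (hn : Odd (Nat.card Ω))
    (hII : ∀ (τ : G) (x y a b : Ω) (j r : G) (e : Ω), Cf τ x y a b → In τ x y a b j →
      F.Rm τ x y a b r → τ • e = e → j • e = e → r • e = e)
    (C : Cf τ x y a b) (hr : F.Rm τ x y a b r) : r = 1 := by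
  by_contra r1
  obtain ⟨j, hj⟩ := F.exists_In C
  obtain ⟨e, e1, e2, e3, e4⟩ := hj.third hn C
  have L : F.Ln τ x y a b e := ⟨C, hII, hn, e1, e3, e4, fun _ h => BB.II.line hII C hj h e1 e2⟩
  have r3 : r ^ 3 = 1 := by rw [pow_succ, pow_two, L.inv_eq hr r1, inv_mul_cancel]
  have h1 := ncard_mod Nat.prime_three r3 (S := Fx Ω τ) fun _ => smul_mem_Fx hr.cm
  rw [L.Fx_R hr r1, ncard3 C.ab e3.symm e4.symm] at h1
  have h2 := L.le_eleven hr r1
  have h3 := odd_Fx hn C.sq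
  have h4 := C.four
  have := Fact.mk Nat.prime_three
  refine F.not_nine hH (orderOf_eq_prime r3 r1 ▸ orderOf_dvd_of_pow_eq_one (F.pow C.d4.ncard hr.mem))
    C.toIv ?_
  unfold Nat.ModEq at h1
  omega

end CfsgL.Q4B
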