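import Cfsg.Agent.H1.QD

set_option autoImplicit false
set_option linter.unusedSectionVars false

/-! Reduction of the class (C2) theorem to a minimal counterexample (helper for S3617). -/

namespace CfsgQ

open Subgroup
open scoped commutatorElement

universe u

section
variable {G : Type u} [Group G]

theorem qm_norm_of {S : Subgroup G} {z : G} (h1 : ∀ n ∈ S, z * n * z⁻¹ ∈ S)
    (h2 : ∀ n ∈ S, z⁻¹ * n * z ∈ S) : z ∈ normalizer (S : Set G) := fun n =>
  ⟨h1 n, fun h => by simpa [mul_assoc] using h2 _ h⟩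

theorem qm_conj {S : Subgroup G} {z n : G} (hz : z ∈ normalizer (S : Set G)) (hn : n ∈ S) :
    z * n * z⁻¹ ∈ S := (mem_normalizer_iff.1 hz n).1 hn

theorem qm_conj' {S : Subgroup G} {z n : G} (hz : z ∈ normalizer (S : Set G)) (hn : n ∈ S) :
    z⁻¹ * n * z ∈ S := by simpa using qm_conj (inv_mem hz) hn

theorem Dl_map {H : Type u} [Group H] (π : G →* H) (K : Set G) :
    Dl (π '' K) = (Dl K).map π := by
  rw [Dl, Dl, MonoidHom.map_closure]
  congr 1
  ext g
  constructor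
  · rintro ⟨_, ⟨x, hx, rfl⟩, _, ⟨y, hy, rfl⟩, rfl⟩
    exact ⟨x⁻¹ * y, ⟨x, hx, y, hy, rfl⟩, by simp⟩
  · rintro ⟨_, ⟨x, hx, y, hy, rfl⟩, rfl⟩
    exact ⟨_, ⟨x, hx, rfl⟩, _, ⟨y, hy, rfl⟩, by simp⟩

theorem C2.qm_sub {p r : ℕ} {K : Set G} (h : C2 p r K) (Y : Subgroup G) :
    C2 p r (Y.subtype ⁻¹' K) where
  hp := h.hp
  hp2 := h.hp2
  hr := h.hr
  hpr := h.hpr
  conj x hx g := h.conj x hx g
  ord x hx := Subtype.ext (h.ord x hx)
  pair x hx y hy := by
    obtain ⟨P, hP, hn, hm⟩ := h.pair x hx y hy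
    refine ⟨P.subgroupOf Y, hP.comap_subtype, qm_norm_of (fun n hn' => ?_) (fun n hn' => ?_), hm⟩
    · exact qm_conj (S := P) (n := (n : G)) hn hn'
    · exact qm_conj' (S := P) (n := (n : G)) hn hn'
  sq x hx y hy := Subtype.ext (h.sq x hx y hy)
  heis z hz P hP hn := by
    have hn' : (z : G) ∈ normalizer ((P.map Y.subtype : Subgroup G) : Set G) := by
      refine qm_norm_of ?_ ?_
      · rintro _ ⟨n, hn', rfl⟩; exact ⟨_, qm_conj hn hn', rfl⟩
      · rintro _ ⟨n, hn', rfl⟩; exact ⟨_, qm_conj' hn hn', rfl⟩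
    have a1 := h.heis z hz _ (hP.map _) hn'
    have e : (⁅P.map Y.subtype, zpowers (z : G)⁆ : Subgroup G) =
        (⁅P, zpowers z⁆ : Subgroup Y).map Y.subtype := by
      rw [map_commutator, MonoidHom.map_zpowers]; rfl
    rw [e] at a1
    exact fun a ha b hb => Subtype.ext (a1 a ⟨a, ha, rfl⟩ b ⟨b, hb, rfl⟩)

theorem C2.qm_quo {p r : ℕ} {K : Set G} (h : C2 p r K) {H : Type u} [Group H] (π : G →* H)
    (hπ : Function.Surjective π)
    (lift : ∀ z : G, ∀ Q : Subgroup H, IsPGroup r Q → π z ∈ normalizer (Q : Set H) →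
      ∃ P : Subgroup G, IsPGroup r P ∧ z ∈ normalizer (P : Set G) ∧ P.map π = Q) :
    C2 p r (π '' K) where
  hp := h.hp
  hp2 := h.hp2
  hr := h.hr
  hpr := h.hpr
  conj := by
    rintro _ ⟨x, hx, rfl⟩ g
    obtain ⟨g, rfl⟩ := hπ g
    exact ⟨_, h.conj x hx g, by simp⟩
  ord := by
    rintro _ ⟨x, hx, rfl⟩
    rw [← map_pow, h.ord x hx, map_one]
  pair := by
    rintro _ ⟨x, hx, rfl⟩ _ ⟨y, hy, rfl⟩
    obtain ⟨P, hP, hn, hm⟩ := h.pair x hx y hy
    refine ⟨P.map π, hP.map _, qm_norm_of ?_ ?_, ⟨_, hm, by simp⟩⟩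
    · rintro _ ⟨n, hn', rfl⟩; exact ⟨_, qm_conj hn hn', by simp⟩
    · rintro _ ⟨n, hn', rfl⟩; exact ⟨_, qm_conj' hn hn', by simp⟩
  sq := by
    rintro _ ⟨x, hx, rfl⟩ _ ⟨y, hy, rfl⟩
    have := (h.sq x hx y hy).map π
    simpa using this
  heis := by
    rintro _ ⟨z, hz, rfl⟩ Q hQ hn
    obtain ⟨P, hP, hn', rfl⟩ := lift z Q hQ hn
    have a1 := h.heis z hz P hP hn'
    have e : (⁅P.map π, zpowers (π z)⁆ : Subgroup H) = (⁅P, zpowers z⁆ : Subgroup G).map π := by
      rw [map_commutator, MonoidHom.map_zpowers]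
    rw [e]
    rintro _ ⟨a, ha, rfl⟩ _ ⟨b, hb, rfl⟩
    rw [← map_commutatorElement]
    exact (a1 a ha b hb).map π

theorem qm_norm_comap {H : Type u} [Group H] (π : G →* H) {Q : Subgroup H} {z : G}
    (hn : π z ∈ normalizer (Q : Set H)) : z ∈ normalizer ((Q.comap π : Subgroup G) : Set G) := by
  refine qm_norm_of (fun n hn' => ?_) (fun n hn' => ?_)
  · simpa using qm_conj hn hn'
  · simpa using qm_conj' hn hn'

/-- `p`-elements over a `p`-group in a central extension by a group of exponent `l`. -/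
theorem qm_central_lift [Finite G] {p l : ℕ} [Fact p.Prime] (hpl : p.Coprime l) {H : Type u} [Group H]
    (π : G →* H) (hπ : Function.Surjective π) (hc : ∀ n, π n = 1 → n ∈ center G ∧ n ^ l = 1)
    (Q : Subgroup H) (hQ : IsPGroup p Q) :
    ∃ S : Subgroup G, IsPGroup p S ∧ S.map π = Q ∧
      ∀ x, x ∈ S ↔ π x ∈ Q ∧ ∃ k, x ^ p ^ k = 1 := by
  obtain ⟨S0⟩ : Nonempty (Sylow p (Q.comap π)) := inferInstance
  have hs := MonoidHom.subgroupComap_surjective_of_surjective π Q hπ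
  have htop : (S0 : Subgroup (Q.comap π)).map (π.subgroupComap Q) = ⊤ :=
    ((S0.mapSurjective hs).is_maximal' (hQ.to_subgroup ⊤) le_top).symm
  have hSp : IsPGroup p ((S0 : Subgroup (Q.comap π)).map (Q.comap π).subtype) := S0.isPGroup'.map _
  have hon : ∀ y ∈ Q, ∃ s ∈ (S0 : Subgroup (Q.comap π)).map (Q.comap π).subtype, π s = y := by
    intro y hy
    have : (⟨y, hy⟩ : Q) ∈ (S0 : Subgroup (Q.comap π)).map (π.subgroupComap Q) := by
      rw [htop]; trivial
    obtain ⟨s, hs, e⟩ := this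
    exact ⟨s, ⟨s, hs, rfl⟩, congrArg Subtype.val e⟩
  refine ⟨_, hSp, le_antisymm ?_ fun y hy => hon y hy, fun x => ⟨fun hx => ⟨?_, ?_⟩, ?_⟩⟩
  · rintro _ ⟨_, ⟨s, -, rfl⟩, rfl⟩; exact s.2
  · obtain ⟨s, -, rfl⟩ := hx; exact s.2
  · obtain ⟨k, hk⟩ := hSp ⟨x, hx⟩
    exact ⟨k, congrArg Subtype.val hk⟩
  · rintro ⟨hx, k, hk⟩
    obtain ⟨s, hs, e⟩ := hon _ hx
    obtain ⟨m, hm⟩ := hSp ⟨s, hs⟩
    have hm' : s ^ p ^ m = 1 := congrArg Subtype.val hm
    obtain ⟨c1, c2⟩ := hc (s⁻¹ * x) (by rw [map_mul, map_inv, e, inv_mul_cancel])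
    have hcm : Commute s (s⁻¹ * x) := mem_center_iff.1 c1 s
    have e1 : (s⁻¹ * x) ^ p ^ (k + m) = 1 := by
      have e2 := hcm.mul_pow (p ^ (k + m))
      rw [mul_inv_cancel_left, pow_add, pow_mul, hk, one_pow, mul_comm (p ^ k), pow_mul s, hm',
        one_pow, one_mul] at e2
      rw [pow_add, mul_comm]; exact e2.symm
    have e3 : s⁻¹ * x = 1 := by
      have := pow_gcd_eq_one.2 ⟨e1, c2⟩
      rwa [Nat.Coprime.gcd_eq_one (Nat.Coprime.pow_left _ hpl), pow_one] at this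
    rw [← (inv_mul_eq_one.1 e3)]; exact hs

end

theorem C2.main {p r : ℕ}
    (hMC : ∀ (G : Type u) [Group G] [Finite G] (K : Set G), MC p r K → False)
    (G : Type u) [Group G] [Finite G] (K : Set G) (h : C2 p r K) : IsPGroup r (Dl K) := by
  have := Fact.mk h.hr
  induction hn : Nat.card G using Nat.strong_induction_on generalizing G with
  | _ n ih =>
  by_contra hcon
  have flat : ∀ Y : Subgroup G, Y ≠ ⊤ → IsPGroup r (Dl (K ∩ (Y : Set G))) := by
    intro Y hY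
    have hlt : Nat.card Y < n := by
      rw [← hn]
      refine lt_of_le_of_ne (card_le_card_group Y) fun e => hY (eq_top_of_card_eq Y e)
    have h1 := (ih _ hlt Y _ (h.qm_sub Y) rfl).map Y.subtype
    rw [← Dl_map] at h1
    have e : Y.subtype '' (Y.subtype ⁻¹' K) = K ∩ (Y : Set G) := by
      rw [Set.image_preimage_eq_inter_range]; congr 1; ext x; simp
    rwa [e] at h1
  have gen : closure K = ⊤ := by
    by_contra hY
    have h1 := flat _ hY
    rw [Set.inter_eq_left.2 Subgroup.subset_closure] at h1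
    exact hcon h1
  have qlt : ∀ N : Subgroup G, ∀ _ : N.Normal, N ≠ ⊥ → Nat.card (G ⧸ N) < n := by
    intro N _ hN
    rw [← hn, card_eq_card_quotient_mul_card_subgroup N]
    have h1 : 1 < Nat.card N := (one_lt_card_iff_ne_bot N).2 hN
    have h2 : 0 < Nat.card (G ⧸ N) := Nat.card_pos
    nlinarith
  have op : ∀ N : Subgroup G, N.Normal → IsPGroup r N → N = ⊥ := by
    intro N hN hNp
    by_contra hb
    have hk : IsPGroup r (QuotientGroup.mk' N).ker := by rwa [QuotientGroup.ker_mk']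
    have hq := h.qm_quo (QuotientGroup.mk' N) (QuotientGroup.mk'_surjective N) fun z Q hQ hn' =>
      ⟨Q.comap _, hQ.comap_of_ker_isPGroup _ hk, qm_norm_comap _ hn',
        map_comap_eq_self_of_surjective (QuotientGroup.mk'_surjective N) Q⟩
    have h1 := ih _ (qlt N hN hb) (G ⧸ N) _ hq rfl
    rw [Dl_map] at h1
    exact hcon ((h1.comap_of_ker_isPGroup _ hk).to_le (le_comap_map _ _))
  refine hMC G K ⟨h, gen, flat, hcon, op, fun g0 hg0 => ?_⟩
  by_contra hg1
  have hc : center G ≠ ⊥ := by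
    intro e
    apply hg1
    have h1 : closure K ≤ centralizer {g0} :=
      (closure_le _).2 fun x hx => mem_centralizer_singleton_iff.2 (hg0 x hx).symm
    have : g0 ∈ center G := mem_center_iff.2 fun y =>
      mem_centralizer_singleton_iff.1 (h1 (by rw [gen]; trivial))
    rwa [e, mem_bot] at this
  have hc1 : Nat.card (center G) ≠ 1 := fun e => hc (eq_bot_of_card_eq _ e)
  obtain ⟨l, hl, hld⟩ := Nat.exists_prime_and_dvd hc1
  have := Fact.mk hl
  obtain ⟨c, hcl⟩ := exists_prime_orderOf_dvd_card' l hld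
  have hcl' : orderOf (c : G) = l := by rw [orderOf_coe, hcl]
  have hle : zpowers (c : G) ≤ center G := zpowers_le.2 c.2
  have hN : (zpowers (c : G)).Normal := ⟨fun n hn g => by
    rw [mem_center_iff.1 (hle hn) g]; simpa using hn⟩
  have hb : zpowers (c : G) ≠ ⊥ := fun e => by
    rw [zpowers_eq_bot] at e; rw [e, orderOf_one] at hcl'; exact hl.one_lt.ne hcl'
  by_cases hlp : l = r
  · refine hb (op _ hN (IsPGroup.of_card (n := 1) ?_))
    rw [Nat.card_zpowers, hcl', hlp, pow_one]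
  have hpl : r.Coprime l := (Nat.coprime_primes h.hr hl).2 (Ne.symm hlp)
  have hker : ∀ n, QuotientGroup.mk' (zpowers (c : G)) n = 1 → n ∈ center G ∧ n ^ l = 1 := by
    intro n hn'
    have hn2 : n ∈ zpowers (c : G) := (QuotientGroup.eq_one_iff n).1 hn'
    refine ⟨hle hn2, ?_⟩
    obtain ⟨i, rfl⟩ := hn2
    show ((c : G) ^ i) ^ l = 1
    rw [← zpow_natCast, ← zpow_mul, mul_comm, zpow_mul, zpow_natCast, ← hcl', pow_orderOf_eq_one,
      one_zpow]
  have hq := h.qm_quo (QuotientGroup.mk' (zpowers (c : G))) (QuotientGroup.mk'_surjective _)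
    fun z Q hQ hn' => by
      obtain ⟨S, s1, s2, s3⟩ := qm_central_lift hpl _ (QuotientGroup.mk'_surjective _) hker Q hQ
      refine ⟨S, s1, qm_norm_of (fun n hn => ?_) (fun n hn => ?_), s2⟩
      · obtain ⟨a, k, hk⟩ := (s3 n).1 hn
        exact (s3 _).2 ⟨qm_conj (qm_norm_comap _ hn') a, k, by rw [conj_pow, hk]; simp⟩
      · obtain ⟨a, k, hk⟩ := (s3 n).1 hn
        refine (s3 _).2 ⟨qm_conj' (qm_norm_comap _ hn') a, k, ?_⟩
        have := conj_pow (a := z⁻¹) (b := n) (i := r ^ k)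
        rw [inv_inv] at this
        rw [this, hk]; simp
  have h1 := ih _ (qlt _ hN hb) (G ⧸ zpowers (c : G)) _ hq rfl
  obtain ⟨S, s1, -, s4⟩ := qm_central_lift hpl _ (QuotientGroup.mk'_surjective _) hker _ h1
  refine hcon (s1.to_le (Dl_le fun x hx y hy => (s4 _).2 ⟨?_, ?_⟩))
  · rw [Dl_map]; exact ⟨_, mem_Dl hx hy, rfl⟩
  · obtain ⟨P, hP, -, hm⟩ := h.pair x hx y hy
    obtain ⟨k, hk⟩ := hP ⟨_, hm⟩
    exact ⟨k, congrArg Subtype.val hk⟩

end CfsgQ
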